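import Mathlib
import Cfsg.Agent.H61.RankOne
import Cfsg.Agent.Phan.SU2Model
import Cfsg.Agent.TitsThree.KSideUDesc

/-!
# The last node of the Witt frame of `SU_{2m}(q)` is `SL(2, q)`
-/

set_option autoImplicit false

namespace Cfsg.Agent.H61.LastEven

open Matrix (SpecialLinearGroup)
open Cfsg Cfsg.Agent.LieClassical.HermBasic
open Cfsg.Agent.TitsThree.Siegel Cfsg.Agent.TitsThree.SiegelGen Cfsg.Agent.TitsThree.WittFrame
  Cfsg.Agent.TitsThree.WittWeyl Cfsg.Agent.TitsThree.WBridge Cfsg.Agent.TitsThree.KSideU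
  Cfsg.Agent.TitsThree.KSideUDesc
open Cfsg.Agent.Nodes.WittRoot Cfsg.Agent.OddCyclic.T1Sl2 Cfsg.Agent.H61.RankOne
open Cfsg.Agent.Phan (fixedField mem_fixedField card_fixedField)

section Rel

variable {F : Type*} [Field F] {V : Type*} [AddCommGroup V] [Module F V] {K : Subfield F} (Φ : V → Prop) (u w : V)

/-- The relation between isometries and matrices over a subfield. -/
structure Rel (g : V ≃ₗ[F] V) (A : SpecialLinearGroup (Fin 2) K) : Prop where
  fst : g u = (A 0 0 : F) • u + (A 1 0 : F) • w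
  snd : g w = (A 0 1 : F) • u + (A 1 1 : F) • w
  fix : ∀ v, Φ v → g v = v

variable {Φ u w}

theorem Rel.mul {g g' : V ≃ₗ[F] V} {A A' : SpecialLinearGroup (Fin 2) K}
    (h : Rel Φ u w g A) (h' : Rel Φ u w g' A') : Rel Φ u w (g * g') (A * A') where
  fst := by
    rw [mul_apply', h'.fst, map_add, map_smul, map_smul, h.fst, h.snd, mul00, mul10]
    push_cast
    module
  snd := by
    rw [mul_apply', h'.snd, map_add, map_smul, map_smul, h.fst, h.snd, mul01, mul11]
    push_cast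
    module
  fix v h1 := by rw [mul_apply', h'.fix v h1, h.fix v h1]

theorem Rel.one : Rel (K := K) Φ u w 1 1 where
  fst := by rw [one00, one10]; simp
  snd := by rw [one01, one11]; simp
  fix v _ := rfl

theorem Rel.inv {g : V ≃ₗ[F] V} {A : SpecialLinearGroup (Fin 2) K}
    (h : Rel Φ u w g A) : Rel Φ u w g⁻¹ A⁻¹ where
  fst := by
    have hd : (A 0 0 : F) * (A 1 1 : F) - (A 0 1 : F) * (A 1 0 : F) = 1 := by
      have := congrArg Subtype.val (det A)
      simpa using this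
    have : g ((A⁻¹ 0 0 : F) • u + (A⁻¹ 1 0 : F) • w) = u := by
      rw [map_add, map_smul, map_smul, h.fst, h.snd, inv00, inv10]
      push_cast
      have e : (A 1 1 : F) • ((A 0 0 : F) • u + (A 1 0 : F) • w) +
          -(A 1 0 : F) • ((A 0 1 : F) • u + (A 1 1 : F) • w)
        = ((A 0 0 : F) * (A 1 1 : F) - (A 0 1 : F) * (A 1 0 : F)) • u := by module
      rw [e, hd, one_smul]
    exact (g.symm_apply_eq).2 this.symm
  snd := by
    have hd : (A 0 0 : F) * (A 1 1 : F) - (A 0 1 : F) * (A 1 0 : F) = 1 := by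
      have := congrArg Subtype.val (det A)
      simpa using this
    have : g ((A⁻¹ 0 1 : F) • u + (A⁻¹ 1 1 : F) • w) = w := by
      rw [map_add, map_smul, map_smul, h.fst, h.snd, inv01, inv11]
      push_cast
      have e : -(A 0 1 : F) • ((A 0 0 : F) • u + (A 1 0 : F) • w) +
          (A 0 0 : F) • ((A 0 1 : F) • u + (A 1 1 : F) • w)
        = ((A 0 0 : F) * (A 1 1 : F) - (A 0 1 : F) * (A 1 0 : F)) • w := by module
      rw [e, hd, one_smul]
    exact (g.symm_apply_eq).2 this.symm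
  fix v h1 := (g.symm_apply_eq).2 (h.fix v h1).symm

theorem Rel.unique (hi : ∀ a b : F, a • u + b • w = 0 → a = 0 ∧ b = 0) {g : V ≃ₗ[F] V}
    {A B : SpecialLinearGroup (Fin 2) K} (h : Rel Φ u w g A) (h' : Rel Φ u w g B) : A = B := by
  have e1 := hi ((A 0 0 : F) - B 0 0) ((A 1 0 : F) - B 1 0) (by
    have := h.fst.symm.trans h'.fst
    rw [← sub_eq_zero] at this
    rw [← this]; module)
  have e2 := hi ((A 0 1 : F) - B 0 1) ((A 1 1 : F) - B 1 1) (by
    have := h.snd.symm.trans h'.snd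
    rw [← sub_eq_zero] at this
    rw [← this]; module)
  exact ext2 (Subtype.ext (sub_eq_zero.1 e1.1)) (Subtype.ext (sub_eq_zero.1 e2.1))
    (Subtype.ext (sub_eq_zero.1 e1.2)) (Subtype.ext (sub_eq_zero.1 e2.2))

end Rel

variable {F : Type*} [Field F] [Fintype F] {q N m : ℕ} {hF : Fintype.card F = q ^ 2} (W : WFrame (PU hF N) m)
  (i : Fin m) (δ : F)

/-- The condition of the fixed vectors. -/
def Ph (v : Fin N → F) : Prop := (HU hF N).h v (W.e i) = 0 ∧ (HU hF N).h v (W.f i) = 0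

/-- The rank one group of the last node. -/
def P2 : Subgroup ((Fin N → F) ≃ₗ[F] (Fin N → F)) := ZG (toFrame W) (i, true) ⊔ ZG (toFrame W) (i, false)

variable {W i δ}

theorem η_eq (z : Fin m × Bool) : (toFrame W).η z = 1 := by
  unfold Frame.η
  split_ifs
  · rfl
  · rfl

/-- the relation for the last node -/
abbrev R2 (W : WFrame (PU hF N) m) (i : Fin m) (δ : F) (g : (Fin N → F) ≃ₗ[F] (Fin N → F))
    (A : SpecialLinearGroup (Fin 2) (fixedField hF)) : Prop :=
  Rel (K := fixedField hF) (Ph W i) (δ • W.e i) (W.f i) g A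

section

variable (hV0 : W.V0 = ⊥) (hδ : δ ^ q = -δ) (hδ0 : δ ≠ 0)

include hδ0 in
theorem indep : ∀ a b : F, a • (δ • W.e i) + b • W.f i = 0 → a = 0 ∧ b = 0 := by
  intro a b hab
  constructor
  · have h1 : (HU hF N).h (a • (δ • W.e i) + b • W.f i) (W.f i) = 0 := by rw [hab, HForm.zero_left]
    rw [HForm.add_left, HForm.smul_left, HForm.smul_left, HForm.smul_left, W.ef, W.ff, if_pos rfl] at h1
    simpa [hδ0] using h1
  · have h1 : (HU hF N).h (a • (δ • W.e i) + b • W.f i) (W.e i) = 0 := by rw [hab, HForm.zero_left]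
    rw [HForm.add_left, HForm.smul_left, HForm.smul_left, HForm.smul_left, W.ee, W.fe, if_pos rfl, HU_ε] at h1
    simpa using h1

/-- the relation for `Z_e(0, t δ)` -/
theorem rel_up {p : (toFrame W).Adm} (hw : p.w = 0) {t : fixedField hF} (hc : p.c = t * δ) :
    R2 W i δ ((toFrame W).Z (i, true) p) (up t) := by
  refine ⟨?_, ?_, ?_⟩
  · rw [up00, up10, map_smul]
    have := Z_apply_of_ne (toFrame W) (x := (i, true)) (z := (i, true)) (ne_neg_self _) p
    rw [toFrame_b_true] at this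
    rw [this]
    simp
  · have := Z_apply_neg (toFrame W) (i, true) p
    rw [η_eq, hw, hc] at this
    have e : (toFrame W).b (neg (i, true)) = W.f i := rfl
    rw [e, toFrame_b_true] at this
    rw [this, up01, up11]
    simp only [smul_zero, add_zero, mul_one, OneMemClass.coe_one, one_smul, smul_smul]
    rw [add_comm]
  · rintro v ⟨h1, h2⟩
    rw [Z_apply, toFrame_b_true, h1, hw, HForm.zero_right]
    simp

theorem rel_lo {p : (toFrame W).Adm} (hw : p.w = 0) {t : fixedField hF} (hc : δ * p.c = t) :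
    R2 W i δ ((toFrame W).Z (i, false) p) (lo t) := by
  refine ⟨?_, ?_, ?_⟩
  · have := Z_apply_neg (toFrame W) (i, false) p
    rw [η_eq, hw] at this
    have e : (toFrame W).b (neg (i, false)) = W.e i := rfl
    rw [e, toFrame_b_false] at this
    rw [map_smul, this, lo00, lo10, ← hc]
    simp only [smul_zero, add_zero, mul_one, one_mul, OneMemClass.coe_one, one_smul, smul_smul, smul_add]
  · have := Z_apply_of_ne (toFrame W) (x := (i, false)) (z := (i, false)) (ne_neg_self _) p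
    rw [toFrame_b_false] at this
    rw [this, lo01, lo11]
    simp
  · rintro v ⟨h1, h2⟩
    rw [Z_apply, toFrame_b_false, h2, hw, HForm.zero_right]
    simp

include hV0 in
theorem adm_w (p : (toFrame W).Adm) : p.w = 0 := by
  have h := (toFrame W).ok_mem p.ok
  rw [toFrame_V0, hV0] at h
  exact (Submodule.mem_bot F).1 h

include hV0 in
theorem adm_c (p : (toFrame W).Adm) : p.c ^ q = -p.c := by
  have h := p.ok.2
  rw [ok_iff, adm_w hV0 p, herm_zero_left, neg_zero] at h
  linear_combination h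

include hV0 hδ hδ0

theorem rel_Z (p : (toFrame W).Adm) : ∃ A, R2 W i δ ((toFrame W).Z (i, true) p) A := by
  have hc := adm_c hV0 p
  have hk : (p.c * δ⁻¹) ^ q = p.c * δ⁻¹ := by
    rw [mul_pow, inv_pow, hδ, hc]
    field_simp
  refine ⟨up ⟨p.c * δ⁻¹, hk⟩, rel_up (adm_w hV0 p) ?_⟩
  show p.c = p.c * δ⁻¹ * δ
  rw [inv_mul_cancel_right₀ hδ0]

theorem rel_Z' (p : (toFrame W).Adm) : ∃ A, R2 W i δ ((toFrame W).Z (i, false) p) A := by
  have hc := adm_c hV0 p
  have hk : (δ * p.c) ^ q = δ * p.c := by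
    rw [mul_pow, hδ, hc]
    ring
  exact ⟨lo ⟨δ * p.c, hk⟩, rel_lo (adm_w hV0 p) rfl⟩

theorem exists_rel {g : (Fin N → F) ≃ₗ[F] (Fin N → F)} (hg : g ∈ P2 W i) : ∃ A, R2 W i δ g A := by
  let S : Subgroup ((Fin N → F) ≃ₗ[F] (Fin N → F)) :=
    { carrier := {g | ∃ A, R2 W i δ g A}
      one_mem' := ⟨1, Rel.one⟩
      mul_mem' := fun ⟨A, h⟩ ⟨B, h'⟩ => ⟨A * B, h.mul h'⟩
      inv_mem' := fun ⟨A, h⟩ => ⟨A⁻¹, h.inv⟩ }
  have hS : P2 W i ≤ S := by
    refine sup_le ?_ ?_
    · rintro _ ⟨p, rfl⟩; exact rel_Z hV0 hδ hδ0 p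
    · rintro _ ⟨p, rfl⟩; exact rel_Z' hV0 hδ hδ0 p
  exact hS hg

theorem rel_surj (A : SpecialLinearGroup (Fin 2) (fixedField hF)) : ∃ g ∈ P2 W i, R2 W i δ g A := by
  let S : Subgroup (SpecialLinearGroup (Fin 2) (fixedField hF)) :=
    { carrier := {A | ∃ g ∈ P2 W i, R2 W i δ g A}
      one_mem' := ⟨1, one_mem _, Rel.one⟩
      mul_mem' := fun ⟨g, hg, h⟩ ⟨g', hg', h'⟩ => ⟨g * g', mul_mem hg hg', h.mul h'⟩
      inv_mem' := fun ⟨g, hg, h⟩ => ⟨g⁻¹, inv_mem hg, h.inv⟩ }
  have hS : S = ⊤ := by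
    refine closure_top' S (fun t => ?_) (fun t => ?_)
    · have ht : (t : F) ^ q = t := t.2
      let p : (toFrame W).Adm := ⟨0, t * δ, W.V0.zero_mem, by
        rw [ok_iff, herm_zero_left, mul_pow, hδ, ht]; ring⟩
      exact ⟨(toFrame W).Z (i, true) p, (le_sup_left : ZG (toFrame W) (i, true) ≤ P2 W i) ⟨p, rfl⟩,
        rel_up rfl rfl⟩
    · have ht : (t : F) ^ q = t := t.2
      let p : (toFrame W).Adm := ⟨0, δ⁻¹ * t, W.V0.zero_mem, by
        rw [ok_iff, herm_zero_left, mul_pow, inv_pow, hδ, ht, inv_neg]; ring⟩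
      exact ⟨(toFrame W).Z (i, false) p, (le_sup_right : ZG (toFrame W) (i, false) ≤ P2 W i) ⟨p, rfl⟩,
        rel_lo rfl (mul_inv_cancel_left₀ hδ0 _)⟩
  have : A ∈ S := by rw [hS]; trivial
  exact this

omit hV0 hδ in
theorem rel_inj {g : (Fin N → F) ≃ₗ[F] (Fin N → F)} (h : R2 W i δ g 1) : g = 1 := by
  have e1 : g (W.e i) = W.e i := by
    have := h.fst
    rw [one00, one10, map_smul] at this
    simp only [OneMemClass.coe_one, one_smul, ZeroMemClass.coe_zero, zero_smul, add_zero] at this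
    exact smul_right_injective _ hδ0 this
  have e2 : g (W.f i) = W.f i := by
    have := h.snd
    rw [one01, one11] at this
    simpa using this
  ext1 v
  show g v = v
  obtain ⟨v', hv'⟩ : ∃ v', v' = v - ((HU hF N).h v (W.f i)) • W.e i - ((HU hF N).h v (W.e i)) • W.f i := ⟨_, rfl⟩
  have b1 : (HU hF N).h v' (W.e i) = 0 := by
    rw [hv', HForm.sub_left, HForm.sub_left, HForm.smul_left, HForm.smul_left, W.ee, W.fe, if_pos rfl, HU_ε]
    ring
  have b2 : (HU hF N).h v' (W.f i) = 0 := by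
    rw [hv', HForm.sub_left, HForm.sub_left, HForm.smul_left, HForm.smul_left, W.ff, W.ef, if_pos rfl]
    ring
  have b3 := h.fix v' ⟨b1, b2⟩
  rw [hv'] at b3
  simp only [map_sub, map_smul, e1, e2] at b3
  exact sub_left_inj.1 (sub_left_inj.1 b3)

/-- **The last node of `SU_{2m}(q)`.** -/
theorem exists_equiv : ∃ e : P2 W i ≃* SpecialLinearGroup (Fin 2) (fixedField hF),
    ∀ g : P2 W i, R2 W i δ g (e g) :=
  nonempty_equiv_of_rel (P2 W i) (R2 W i δ) (fun _ _ _ _ h h' => h.mul h')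
    (fun _ hg => exists_rel hV0 hδ hδ0 hg) (rel_surj hV0 hδ hδ0) (fun _ _ h => rel_inj hδ0 h)
    (fun _ h => h.unique (indep hδ0) Rel.one)

end

end Cfsg.Agent.H61.LastEven
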