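import Mathlib
import Cfsg.Agent.H61.LastEven
import Cfsg.Agent.H61.LastOdd
import Cfsg.Agent.Nodes.WittInst

/-!
# The nodes of the Witt frame of `SU_N(q)`

* `node_typeI`, `node_even`, `node_odd` : the rank one subgroups `rg (sr i) ⊔ rg (-sr i)`;
* `fix_of_mem` : the rank one subgroup of `i` fixes `e j` for `j < i`;
* `eq_one_of_mem` : a torus element of the rank one subgroup of `i` which fixes `e i` is trivial.
-/

set_option autoImplicit false

namespace Cfsg.Agent.H61.SUNode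

open Matrix (SpecialLinearGroup)
open Cfsg Cfsg.Agent.LieClassical.HermBasic Cfsg.Agent.LieClassical.HermSiegel Cfsg.Agent.Tits.Roots
open Cfsg.Agent.TitsThree.Siegel Cfsg.Agent.TitsThree.SiegelGen Cfsg.Agent.TitsThree.WittFrame
  Cfsg.Agent.TitsThree.WittWeyl Cfsg.Agent.TitsThree.WBridge Cfsg.Agent.TitsThree.KSideU
  Cfsg.Agent.TitsThree.KSideUDesc
open Cfsg.Agent.Nodes.WittRoot Cfsg.Agent.Nodes.WittRGD Cfsg.Agent.Nodes.TypeC Cfsg.Agent.OddCyclic.T1Sl2
  Cfsg.Agent.H61.RankOne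
open Cfsg.Agent.Phan (fixedField mem_fixedField card_fixedField)

section frame

variable {F : Type*} [Field F] {V : Type*} [AddCommGroup V] [Module F V] {H : HForm F V} {n : ℕ}
  {Fr : Frame H (Fin n)}

/-- the rank one subgroup of a node -/
def Nv (Fr : Frame H (Fin n)) (i : Fin n) : Subgroup (V ≃ₗ[F] V) := rg Fr (sr i) ⊔ rg Fr (-sr i)

theorem nx_of_lt {i : Fin n} (h : (i : ℕ) + 1 < n) : nx i = (⟨i + 1, h⟩, false) := by
  unfold nx; rw [dif_pos h]

theorem nx_of_not {i : Fin n} (h : ¬ (i : ℕ) + 1 < n) : nx i = (i, true) := by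
  unfold nx; rw [dif_neg h]

theorem ne_nx {i : Fin n} (h : (i : ℕ) + 1 < n) : ((i, true) : Fin n × Bool).1 ≠ (nx i).1 := by
  rw [nx_of_lt h]
  simp [Fin.ext_iff]

theorem Nv_eq_P1 {i : Fin n} (h : (i : ℕ) + 1 < n) : Nv Fr i = P1 Fr (i, true) (nx i) := by
  unfold Nv P1
  rw [rg_sr, rg_neg_sr, PG_ne Fr (ne_nx h), PG_ne Fr (a := ng (i, true)) (b := ng (nx i)) (ne_nx h)]
  rfl

theorem Nv_eq_ZG {i : Fin n} (h : ¬ (i : ℕ) + 1 < n) : Nv Fr i = ZG Fr (i, true) ⊔ ZG Fr (i, false) := by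
  unfold Nv
  rw [rg_sr, rg_neg_sr, nx_of_not h, PG_self, PG_self]
  rfl

/-- The node `i` fixes `b (j, true)` for `j < i`. -/
theorem fix_of_mem {i j : Fin n} (hij : j < i) {g : V ≃ₗ[F] V} (hg : g ∈ Nv Fr i) :
    g (Fr.b (j, true)) = Fr.b (j, true) := by
  let S : Subgroup (V ≃ₗ[F] V) :=
    { carrier := {g | g (Fr.b (j, true)) = Fr.b (j, true)}
      one_mem' := rfl
      mul_mem' := by
        intro a b ha hb
        have ha' : a (Fr.b (j, true)) = Fr.b (j, true) := ha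
        have hb' : b (Fr.b (j, true)) = Fr.b (j, true) := hb
        show (a * b) _ = _
        rw [mul_apply', hb', ha']
      inv_mem' := by
        intro a ha
        have ha' : a (Fr.b (j, true)) = Fr.b (j, true) := ha
        exact (a.symm_apply_eq).2 ha'.symm }
  have hS : Nv Fr i ≤ S := by
    by_cases h : (i : ℕ) + 1 < n
    · rw [Nv_eq_P1 h]
      have h1 : ∀ z : Fin n × Bool, z.1 = i → ((j, true) : Fin n × Bool) ≠ z := by
        rintro z hz rfl
        exact hij.ne hz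
      have h2 : ∀ z : Fin n × Bool, z.1 = (nx i).1 → ((j, true) : Fin n × Bool) ≠ z := by
        rintro z hz rfl
        rw [nx_of_lt h] at hz
        have h3 : (j : ℕ) = i + 1 := congrArg Fin.val hz
        have h4 : (j : ℕ) < i := hij
        omega
      refine sup_le ?_ ?_
      · rintro _ ⟨t, rfl⟩
        exact X_apply_of_ne Fr (ne_nx h) (h1 _ rfl) (h2 _ rfl) t
      · rintro _ ⟨t, rfl⟩
        exact X_apply_of_ne Fr (x := neg (i, true)) (y := neg (nx i)) (ne_nx h) (h1 _ rfl) (h2 _ rfl) t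
    · rw [Nv_eq_ZG h]
      have h1 : ∀ z : Fin n × Bool, z.1 = i → ((j, true) : Fin n × Bool) ≠ z := by
        rintro z hz rfl
        exact hij.ne hz
      refine sup_le ?_ ?_
      · rintro _ ⟨p, rfl⟩
        exact Z_apply_of_ne Fr (x := (i, true)) (z := (j, true)) (h1 _ rfl) p
      · rintro _ ⟨p, rfl⟩
        exact Z_apply_of_ne Fr (x := (i, false)) (z := (j, true)) (h1 _ rfl) p
  exact hS hg

/-- Torus elements of a node of type I. -/
theorem eq_one_typeI {i : Fin n} (h : (i : ℕ) + 1 < n) {g : V ≃ₗ[F] V} (hg : g ∈ Nv Fr i) (hm : Mono Fr g id)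
    (he : g (Fr.b (i, true)) = Fr.b (i, true)) : g = 1 := by
  rw [Nv_eq_P1 h] at hg
  have hxy := ne_nx h
  obtain ⟨A, hA⟩ := RankOne.exists_rel hxy hg
  have e1 := lin_indep (Fr := Fr) hxy (α := A 0 0 - 1) (β := A 1 0) (by
    have := hA.fst.symm.trans he
    rw [← sub_eq_zero] at this
    rw [← this]; module)
  obtain ⟨l, hl, hgl⟩ := hm (neg (nx i))
  have e2 := lin_indep (Fr := Fr) hxy (α := A 0 1) (β := A 1 1 - l) (by
    have := hA.snd.symm.trans hgl
    rw [← sub_eq_zero] at this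
    rw [← this, id_eq]; module)
  have hA1 : A = 1 := by
    have hd := det A
    rw [e1.2, e2.1, sub_eq_zero.1 e1.1] at hd
    refine ext2 ?_ ?_ ?_ ?_
    · rw [one00, sub_eq_zero.1 e1.1]
    · rw [e2.1, one01]
    · rw [e1.2, one10]
    · rw [one11]; linear_combination hd
  rw [hA1] at hA
  exact RankOne.rel_inj hxy hA

end frame

variable {F : Type*} [Field F] [Fintype F] {q N m : ℕ} {hF : Fintype.card F = q ^ 2} {W : WFrame (PU hF N) m}

theorem eq_one_even (hV0 : W.V0 = ⊥) {δ : F} (hδ : δ ^ q = -δ) (hδ0 : δ ≠ 0) {i : Fin m}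
    (h : ¬ (i : ℕ) + 1 < m) {g : (Fin N → F) ≃ₗ[F] (Fin N → F)} (hg : g ∈ Nv (toFrame W) i)
    (hm : Mono (toFrame W) g id) (he : g (W.e i) = W.e i) : g = 1 := by
  rw [Nv_eq_ZG h] at hg
  obtain ⟨A, hA⟩ := LastEven.exists_rel hV0 hδ hδ0 hg
  have e1 := LastEven.indep (W := W) (i := i) hδ0 ((A 0 0 : F) - 1) (A 1 0 : F) (by
    have := hA.fst
    rw [map_smul, he, ← sub_eq_zero] at this
    rw [← neg_eq_zero, ← this]; module)
  obtain ⟨l, hl, hgl⟩ := hm (i, false)
  have e2 := LastEven.indep (W := W) (i := i) hδ0 (A 0 1 : F) ((A 1 1 : F) - l) (by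
    have := hA.snd.symm.trans hgl
    rw [← sub_eq_zero] at this
    rw [← this]
    show _ = _ - l • W.f i
    module)
  have h00 : A 0 0 = 1 := Subtype.ext (sub_eq_zero.1 e1.1)
  have h10 : A 1 0 = 0 := Subtype.ext e1.2
  have h01 : A 0 1 = 0 := Subtype.ext e2.1
  have hA1 : A = 1 := by
    have hd := det A
    rw [h10, h01, h00] at hd
    refine ext2 ?_ ?_ ?_ ?_
    · rw [one00, h00]
    · rw [h01, one01]
    · rw [h10, one10]
    · rw [one11]; linear_combination hd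
  rw [hA1] at hA
  exact LastEven.rel_inj hδ0 hA

/-- An element of `SU_3` fixing `e`, `f` and the line of `d` is trivial. -/
theorem eq_one_SU3 {W' : WFrame (PU hF 3) 1} {d' : Fin 3 → F} (hV0' : W'.V0 = Submodule.span F {d'})
    (hd' : hermForm 3 F q d' d' = 1) {A : SU 3 F q} (he : act A (W'.e 0) = W'.e 0)
    (hf : act A (W'.f 0) = W'.f 0) : A = 1 := by
  -- the image of `d'`
  have hiso : ∀ v w, (HU hF 3).h (act A v) (act A w) = (HU hF 3).h v w := fun v w => herm_act A v w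
  obtain ⟨μ, hμ⟩ : ∃ μ : F, act A d' = μ • d' := by
    have h1 := LastOdd.expand hV0' hd' (act A d')
    have h2 : (HU hF 3).h (act A d') (W'.f 0) = 0 := by
      rw [← hf, hiso]; exact W'.V0f _ (LastOdd.d'_mem hV0') 0
    have h3 : (HU hF 3).h (act A d') (W'.e 0) = 0 := by
      rw [← he, hiso]; exact W'.V0e _ (LastOdd.d'_mem hV0') 0
    rw [h2, h3] at h1
    exact ⟨_, by simpa using h1⟩
  -- the matrix of the frame
  let M : Matrix (Fin 3) (Fin 3) F := Matrix.of fun r c => ![W'.e 0, W'.f 0, d'] c r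
  let M' : Matrix (Fin 3) (Fin 3) F := Matrix.of fun r c => (![W'.f 0, W'.e 0, d'] r c) ^ q
  have hMM : M' * M = 1 := by
    have hh : ∀ v w : Fin 3 → F, ∑ k, (w k) ^ q * v k = (HU hF 3).h v w := by
      intro v w
      rw [HU_h]
      unfold hermForm
      exact Finset.sum_congr rfl fun k _ => mul_comm _ _
    have hd := LastOdd.d'_mem hV0'
    ext r c
    rw [Matrix.mul_apply]
    show ∑ k, (![W'.f 0, W'.e 0, d'] r k) ^ q * ![W'.e 0, W'.f 0, d'] c k = _
    rw [hh]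
    fin_cases r <;> fin_cases c
    · show (HU hF 3).h (W'.e 0) (W'.f 0) = 1
      rw [W'.ef, if_pos rfl]
    · show (HU hF 3).h (W'.f 0) (W'.f 0) = 0
      rw [W'.ff]
    · show (HU hF 3).h d' (W'.f 0) = 0
      rw [W'.V0f _ hd]
    · show (HU hF 3).h (W'.e 0) (W'.e 0) = 0
      rw [W'.ee]
    · show (HU hF 3).h (W'.f 0) (W'.e 0) = 1
      rw [W'.fe, if_pos rfl, HU_ε]
    · show (HU hF 3).h d' (W'.e 0) = 0
      rw [W'.V0e _ hd]
    · show (HU hF 3).h (W'.e 0) d' = 0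
      rw [W'.eV0 0 hd]
    · show (HU hF 3).h (W'.f 0) d' = 0
      rw [W'.fV0 0 hd]
    · show (HU hF 3).h d' d' = 1
      rw [HU_h, hd']
  have hAM : (mat A) * M = M * Matrix.diagonal ![1, 1, μ] := by
    ext r c
    rw [Matrix.mul_diagonal]
    have h1 : ((mat A) * M) r c = act A (![W'.e 0, W'.f 0, d'] c) r := by
      rw [act_def]; rfl
    rw [h1]
    fin_cases c
    · show act A (W'.e 0) r = W'.e 0 r * 1
      rw [he, mul_one]
    · show act A (W'.f 0) r = W'.f 0 r * 1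
      rw [hf, mul_one]
    · show act A d' r = d' r * μ
      rw [hμ, Pi.smul_apply, smul_eq_mul, mul_comm]
  have hdet : (mat A).det = 1 := A.1.2
  have hμ1 : μ = 1 := by
    have h1 := congrArg Matrix.det hAM
    have h2 := congrArg Matrix.det hMM
    rw [Matrix.det_mul, Matrix.det_mul, Matrix.det_diagonal, hdet, Fin.prod_univ_three] at h1
    rw [Matrix.det_mul, Matrix.det_one] at h2
    have h3 : M.det ≠ 0 := fun h0 => by rw [h0, mul_zero] at h2; exact zero_ne_one h2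
    have h4 : (1 : F) * M.det = M.det * (1 * 1 * μ) := h1
    have h5 : M.det * (μ - 1) = 0 := by linear_combination -h4
    exact sub_eq_zero.1 ((mul_eq_zero.1 h5).resolve_left h3)
  refine ext_act fun v => ?_
  rw [act_one]
  rw [LastOdd.expand hV0' hd' v, act_add, act_add, act_smul, act_smul, act_smul, he, hf, hμ, hμ1, one_smul]

theorem eq_one_odd {d : Fin N → F} (hV0 : W.V0 = Submodule.span F {d}) (hd : hermForm N F q d d = 1)
    {i : Fin m} (h : ¬ (i : ℕ) + 1 < m) {g : (Fin N → F) ≃ₗ[F] (Fin N → F)} (hg : g ∈ Nv (toFrame W) i)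
    (hm : Mono (toFrame W) g id) (he : g (W.e i) = W.e i) (hiso : (HU hF N).IsIso g) : g = 1 := by
  rw [Nv_eq_ZG h] at hg
  obtain ⟨W', d', hd', hV0'⟩ := exists_wframe_odd (N := 3) hF (m := 1) rfl
  obtain ⟨A, hA⟩ := LastOdd.exists_rel (W' := W') hV0 hd hV0' hd' hg
  obtain ⟨l, hl, hgl⟩ := hm (i, false)
  have hgl' : g (W.f i) = l • W.f i := hgl
  have hl1 : l = 1 := by
    have h1 := hiso (W.f i) (W.e i)
    rw [he, hgl', HForm.smul_left, W.fe, if_pos rfl, HU_ε, mul_one] at h1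
    exact h1
  rw [hl1, one_smul] at hgl'
  have h1 : toLin F q 3 A (W'.e 0) = W'.e 0 := by
    have h2 := hA.rel (W'.e 0)
    rw [LastOdd.jm_e hV0', he, ← LastOdd.jm_e (W := W) (i := i) (d := d) hV0', ← sub_eq_zero, ← map_sub] at h2
    exact (sub_eq_zero.1 (LastOdd.jm_inj hV0' hd' h2 hV0 hd)).symm
  have h3 : toLin F q 3 A (W'.f 0) = W'.f 0 := by
    have h2 := hA.rel (W'.f 0)
    rw [LastOdd.jm_f hV0', hgl', ← LastOdd.jm_f (W := W) (i := i) (d := d) hV0', ← sub_eq_zero, ← map_sub] at h2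
    exact (sub_eq_zero.1 (LastOdd.jm_inj hV0' hd' h2 hV0 hd)).symm
  have hA1 := eq_one_SU3 hV0' hd' h1 h3
  rw [hA1] at hA
  exact LastOdd.rel_inj hV0 hd hV0' hd' hA

end Cfsg.Agent.H61.SUNode
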