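import Mathlib
import Cfsg.Agent.H61.SUCross
import Cfsg.Agent.H61.UThreeCE
import Cfsg.Agent.H60.CoverMult
import Cfsg.Agent.KFacts.Mult.UnitLit
import Cfsg.Agent.LieClassical.HermPerfect
import Cfsg.Agent.LieClassical.FieldTransfer

/-!
# The Schur multipliers of `PSU_n(q)`: assembly

* `noPCov_of_quot` : `NoPCov` of a central quotient implies `NoPCov`;
* `noPCov_cross` : cross characteristic, `N ≥ 3`;
* `noPCov_two` : characteristic two;
* `hasMultiplier` : the multiplier of `PSU_n(q)`, given the defining characteristic (odd).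
-/

set_option autoImplicit false
set_option linter.style.haveILetI false

namespace Cfsg.Agent.H61.PSUMult

open Cfsg Cfsg.Agent.LieClassical.HermBasic Cfsg.Agent.H67 Cfsg.Agent.H67.Cross

universe u

/-- An element which commutes with everything modulo the centre of a perfect group is central. -/
theorem central_of_perfect {L : Type*} [Group L] (hL : commutator L = ⊤) {x : L}
    (hx : ∀ y, x * y * x⁻¹ * y⁻¹ ∈ Subgroup.center L) (y : L) : x * y = y * x := by
  have h1 : commutator L ≤ Subgroup.centralizer {x} := by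
    rw [commutator_eq_closure, Subgroup.closure_le]
    rintro _ ⟨a, b, rfl⟩
    rw [SetLike.mem_coe, Subgroup.mem_centralizer_singleton_iff, commutatorElement_def]
    obtain ⟨z, hz⟩ : ∃ z, z = x * a * x⁻¹ * a⁻¹ := ⟨_, rfl⟩
    obtain ⟨w, hw⟩ : ∃ w, w = x * b * x⁻¹ * b⁻¹ := ⟨_, rfl⟩
    have hzc : ∀ g, g * z = z * g := by rw [hz]; exact Subgroup.mem_center_iff.1 (hx a)
    have hwc : ∀ g, g * w = w * g := by rw [hw]; exact Subgroup.mem_center_iff.1 (hx b)
    have ha : x * a * x⁻¹ = z * a := by rw [hz]; group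
    have hb : x * b * x⁻¹ = w * b := by rw [hw]; group
    have key : x * (a * b * a⁻¹ * b⁻¹) * x⁻¹ = a * b * a⁻¹ * b⁻¹ := by
      calc x * (a * b * a⁻¹ * b⁻¹) * x⁻¹
          = (x * a * x⁻¹) * (x * b * x⁻¹) * (x * a * x⁻¹)⁻¹ * (x * b * x⁻¹)⁻¹ := by group
        _ = (z * a) * (w * b) * (z * a)⁻¹ * (w * b)⁻¹ := by rw [ha, hb]
        _ = z * (a * w) * b * a⁻¹ * (z⁻¹ * b⁻¹) * w⁻¹ := by group
        _ = z * (w * a) * b * a⁻¹ * (z⁻¹ * b⁻¹) * w⁻¹ := by rw [hwc a]
        _ = z * (w * (a * b * a⁻¹)) * (z⁻¹ * b⁻¹) * w⁻¹ := by group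
        _ = z * ((a * b * a⁻¹) * w) * (z⁻¹ * b⁻¹) * w⁻¹ := by rw [← hwc (a * b * a⁻¹)]
        _ = (z * (a * b * a⁻¹ * w)) * z⁻¹ * b⁻¹ * w⁻¹ := by group
        _ = ((a * b * a⁻¹ * w) * z) * z⁻¹ * b⁻¹ * w⁻¹ := by rw [← hzc (a * b * a⁻¹ * w)]
        _ = a * b * a⁻¹ * (w * b⁻¹) * w⁻¹ := by group
        _ = a * b * a⁻¹ * (b⁻¹ * w) * w⁻¹ := by rw [← hwc b⁻¹]
        _ = a * b * a⁻¹ * b⁻¹ := by group
    have h2 := mul_inv_eq_iff_eq_mul.1 key
    exact h2.symm
  have h3 : y ∈ Subgroup.centralizer {x} := h1 (by rw [hL]; trivial)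
  exact (Subgroup.mem_centralizer_singleton_iff.1 h3).symm

theorem noPCov_of_quot {p : ℕ} (hp : p.Prime) {X Q : Type*} [Group X] [Group Q] {π : X →* Q}
    (hπ : Function.Surjective π) (hcen : π.ker ≤ Subgroup.center X) (h : NoPCov p Q) : NoPCov p X := by
  intro L _ _ f c hd
  have hker : (π.comp f).ker ≤ Subgroup.center L := by
    intro x hx
    rw [Subgroup.mem_center_iff]
    intro y
    refine (central_of_perfect hd.perf (x := x) (fun y => ?_) y).symm
    have h1 : f x ∈ Subgroup.center X := hcen hx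
    have h2 : f (x * y * x⁻¹ * y⁻¹) = 1 := by
      rw [map_mul, map_mul, map_mul, map_inv, map_inv, ← Subgroup.mem_center_iff.1 h1 (f y)]
      group
    exact hd.ker_le h2
  have h1 := h.not_dvd_card_ker hp hd.perf (f := π.comp f) (hπ.comp hd.surj) hker
  apply h1
  have hc : c ∈ (π.comp f).ker := by
    rw [MonoidHom.mem_ker, MonoidHom.comp_apply, hd.pi_c, map_one]
  rw [← hd.orderOf_c hp]
  exact Subgroup.orderOf_dvd_natCard _ hc

section zero

variable {F : Type} [Field F] [Fintype F] {q N : ℕ}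

/-- **Cross characteristic.** -/
theorem noPCov_cross (hF : Fintype.card F = q ^ 2) (hN : 3 ≤ N) {p r : ℕ} (hp : p.Prime) [CharP F p]
    (hr : r.Prime) (hne : r ≠ p) : NoPCov r (SU N F q) :=
  SUCross.noPCov_SU hF hN hp hr hne fun _ => UThreeCE.noCE_SU3 hF hp hr hne

/-- **Characteristic two.** -/
theorem noPCov_two (hF : Fintype.card F = q ^ 2) (hN : 3 ≤ N) [CharP F 2] (h3 : ¬ (N = 3 ∧ q = 2))
    (h4 : ¬ (N = 4 ∧ q = 2)) (h6 : ¬ (N = 6 ∧ q = 2)) : NoPCov 2 (SU N F q) := by
  obtain ⟨p, a, hp, hch, hq, ha⟩ := exists_prime_pow hF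
  have e : p = 2 := CharP.eq F hch ‹_›
  subst e
  subst hq
  have hF' : Fintype.card F = 4 ^ a := by rw [hF, ← pow_mul, mul_comm, pow_mul]; norm_num
  have hone : ∀ {a : ℕ}, 0 < a → ¬ (2 ^ a = 2) → 2 ≤ a := by
    intro a ha h
    rcases Nat.lt_or_ge a 2 with h1 | h1
    · have : a = 1 := by omega
      subst this
      exact absurd (pow_one 2) h
    · exact h1
  have hq2 : 2 ^ 1 = 2 := rfl
  have hnd : KFacts.MulDef.NoDouble (PSU N F (2 ^ a)) := by
    by_cases n3 : N = 3
    · subst n3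
      exact KFacts.Mult.Unitary.u3 F a (hone ha fun h => h3 ⟨rfl, h⟩) hF'
    by_cases n4 : N = 4
    · subst n4
      exact KFacts.Mult.Unitary.u4 F a (hone ha fun h => h4 ⟨rfl, h⟩) hF'
    by_cases n5 : N = 5
    · subst n5
      exact KFacts.Mult.UnitLit.u5 F a ha hF'
    exact KFacts.Mult.UnitLit.u F a N ha hF' (by omega) fun h => hone ha fun h' => h6 ⟨h, h'⟩
  exact noPCov_of_quot Nat.prime_two (π := QuotientGroup.mk' (Subgroup.center (SU N F (2 ^ a))))
    (QuotientGroup.mk'_surjective _) (by rw [QuotientGroup.ker_mk']) (NoPCov.of_noDouble hnd)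

end zero

section center

variable {F : Type u} [Field F] [Fintype F] {q N : ℕ}

/-- The centre of `SU_n(q)` is cyclic of order `gcd (n, q + 1)`. -/
theorem nonempty_center (hF : Fintype.card F = q ^ 2) (hN : 3 ≤ N) :
    Nonempty (Subgroup.center (SU N F q) ≃* Multiplicative (ZMod (Nat.gcd N (q + 1)))) := by
  have hc := Cfsg.Agent.S0279.result hF N hN
  let i0 : Fin N := ⟨0, by omega⟩
  have hcyc : IsCyclic (Subgroup.center (SU N F q)) := by
    have key : ∀ A : Subgroup.center (SU N F q), ∃ c : F, (A : SU N F q).1.1 = Matrix.diagonal fun _ => c := by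
      rintro ⟨A, hA⟩
      obtain ⟨c, hcn, hcq, rfl⟩ := (LieClassical.SUBasic.mem_center_SU_iff hF hN A).1 hA
      exact ⟨c, rfl⟩
    let f : Subgroup.center (SU N F q) →* F :=
      { toFun := fun A => (A : SU N F q).1.1 i0 i0
        map_one' := Matrix.one_apply_eq i0
        map_mul' := by
          intro A B
          obtain ⟨a, ha⟩ := key A
          obtain ⟨b, hb⟩ := key B
          show (((A : SU N F q).1.1 * (B : SU N F q).1.1) : Matrix (Fin N) (Fin N) F) i0 i0 = _
          rw [ha, hb, Matrix.diagonal_mul_diagonal, Matrix.diagonal_apply_eq, Matrix.diagonal_apply_eq,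
            Matrix.diagonal_apply_eq] }
    refine isCyclic_of_injective_ringHom f ?_
    intro A B hAB
    obtain ⟨a, ha⟩ := key A
    obtain ⟨b, hb⟩ := key B
    have h1 : (A : SU N F q).1.1 i0 i0 = (B : SU N F q).1.1 i0 i0 := hAB
    rw [ha, hb, Matrix.diagonal_apply_eq, Matrix.diagonal_apply_eq] at h1
    apply Subtype.ext
    apply Subtype.ext
    apply Subtype.ext
    rw [ha, hb, h1]
  have : NeZero (Nat.gcd N (q + 1)) := ⟨(Nat.gcd_pos_of_pos_left _ (by omega)).ne'⟩
  have h1 : Nat.card (Multiplicative (ZMod (Nat.gcd N (q + 1)))) = Nat.gcd N (q + 1) := Nat.card_zmod _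
  exact ⟨mulEquivOfCyclicCardEq (by rw [hc, h1])⟩

end center

/-- **The Schur multiplier of `PSU_n(q)`**, given the defining characteristic. -/
theorem hasMultiplier {F : Type u} [Field F] [Fintype F] {q N : ℕ} (hF : Fintype.card F = q ^ 2) (hN : 3 ≤ N)
    (h3 : ¬ (N = 3 ∧ q = 2)) (h4 : ¬ (N = 4 ∧ q = 2)) (h6 : ¬ (N = 6 ∧ q = 2))
    (hdef : ∀ (K : Type) [Field K] [Fintype K] (p : ℕ) [CharP K p], p.Prime → p ≠ 2 → Fintype.card K = q ^ 2 →
      NoPCov p (SU N K q)) : Cfsg.HasCyclicSchurMultiplier (PSU N F q) (Nat.gcd N (q + 1)) := by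
  obtain ⟨p, a, hp, hch, hq, ha⟩ := exists_prime_pow hF
  haveI : Fact p.Prime := ⟨hp⟩
  have hcardK : Nat.card (GaloisField p (2 * a)) = q ^ 2 := by
    rw [GaloisField.card p (2 * a) (by omega), hq, ← pow_mul, mul_comm]
  haveI : Finite (GaloisField p (2 * a)) :=
    Nat.finite_of_card_ne_zero (by rw [hcardK]; exact (pow_pos (q_pos hF) 2).ne')
  haveI := Fintype.ofFinite (GaloisField p (2 * a))
  have hK : Fintype.card (GaloisField p (2 * a)) = q ^ 2 := by rw [← Nat.card_eq_fintype_card, hcardK]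
  have hnp : ∀ r : ℕ, r.Prime → NoPCov r (SU N (GaloisField p (2 * a)) q) := by
    intro r hr
    by_cases hne : r = p
    · subst hne
      by_cases h2 : r = 2
      · subst h2
        exact noPCov_two hK hN h3 h4 h6
      · exact hdef _ r hp h2 hK
    · exact noPCov_cross hK hN hp hr hne
  have e : F ≃+* GaloisField p (2 * a) := FiniteField.ringEquivOfCardEq (hF.trans hK.symm)
  have e2 := LieClassical.FieldTransfer.suCongr N q e
  have hperf := LieClassical.HermPerfect.commutator_SU_eq_top hF hN h3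
  have hM : Cfsg.HasCyclicSchurMultiplier (SU N F q) 1 :=
    hasTrivial hperf fun r hr => (hnp r hr).congr e2.symm
  obtain ⟨ec⟩ := nonempty_center hF hN
  exact H60.CoverMult.hasSchurMultiplier_of_cover hperf hM
    (π := QuotientGroup.mk' (Subgroup.center (SU N F q))) (QuotientGroup.mk'_surjective _)
    (by rw [QuotientGroup.ker_mk']) ((MulEquiv.subgroupCongr (QuotientGroup.ker_mk' _)).trans ec)

end Cfsg.Agent.H61.PSUMult
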