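import Cfsg.Agent.H61.GowPlane
import Cfsg.Agent.H139.Cusp.Bridge
import Cfsg.Agent.Blocks.Deflate

/-!
# Rational characters of odd degree of `PSL_n(q)`, `q` even (helper61)

* `psl` : `n ≥ 4`;
* `psl_three_of` : `n = 3`, `q ≢ 1 (mod 3)`.
-/

set_option autoImplicit false

open scoped ComplexConjugate MatrixGroups
open Cfsg

namespace Cfsg.Agent.H61.GowPsl

open Cfsg.Agent.Characters Cfsg.Agent.H53.HC Module Cfsg.Agent.H61.GowFlag Cfsg.Agent.H61.GowGlue
  Cfsg.Agent.H61.GowSigma Cfsg.Agent.H61.GowPlane Matrix Cfsg.Agent.H636.Gow Polynomial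

universe u v w

/-! ### the action of `SL_n` -/

theorem slSurj {F : Type u} [Field F] {n : ℕ} (e : (Fin n → F) ≃ₗ[F] (Fin n → F)) (he : LinearEquiv.det e = 1) :
    ∃ g : Matrix.SpecialLinearGroup (Fin n) F, Matrix.SpecialLinearGroup.toLin' g = e := by
  have hdet : (LinearMap.toMatrix' (e : (Fin n → F) →ₗ[F] (Fin n → F))).det = 1 := by
    rw [LinearMap.det_toMatrix', ← LinearEquiv.coe_det, he, Units.val_one]
  obtain ⟨g, hg⟩ : ∃ g : Matrix.SpecialLinearGroup (Fin n) F, (g : Matrix (Fin n) (Fin n) F) =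
      LinearMap.toMatrix' (e : (Fin n → F) →ₗ[F] (Fin n → F)) := ⟨⟨_, hdet⟩, rfl⟩
  refine ⟨g, ?_⟩
  ext1 v
  rw [Matrix.SpecialLinearGroup.toLin'_apply, hg, Matrix.toLin'_toMatrix']
  rfl

/-- **Descent to `PSL_n`.** -/
theorem ratOdd_psl {F : Type u} [Field F] [Fintype F] (hF : Even (Fintype.card F)) {n : ℕ} (hn : 3 ≤ n)
    {Ψ : GL (Fin 2) F → ℂ} (hΨ : IsIrrCharacter _ Ψ) (hrat : ∀ A, ∃ q : ℚ, Ψ A = q)
    (hs : ∀ c : Fˣ, Ψ (GeneralLinearGroup.scalar (Fin 2) c) = Ψ 1) (hodd : ∃ d : ℕ, Odd d ∧ Ψ 1 = d)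
    (hirr : IsIrrCharacter (Matrix.SpecialLinearGroup (Fin n) F)
      (flagChar (Matrix.SpecialLinearGroup.toLin' (R := F)) (planes F n) Ψ)) :
    RatOdd (Matrix.ProjectiveSpecialLinearGroup (Fin n) F) := by
  classical
  have : Finite (Matrix.SpecialLinearGroup (Fin n) F) := inferInstance
  let _ : Fintype (Subgroup.center (Matrix.SpecialLinearGroup (Fin n) F)) := Fintype.ofFinite _
  obtain ⟨d, hd, hd1⟩ := hodd
  have hcf := Core.isIrr_isClassFunction hΨ
  have hone : flagChar (Matrix.SpecialLinearGroup.toLin' (n := Fin n) (R := F)) (planes F n) Ψ 1 =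
      ((Nat.card (planes F n) * d : ℕ) : ℂ) := by
    rw [flagChar_one (Matrix.SpecialLinearGroup.toLin' (n := Fin n) (R := F)) (planes F n) hcf (fun W hW => hW), hd1]
    push_cast
    rfl
  have hpos : 0 < Nat.card (planes F n) := lt_trans zero_lt_one (one_lt_card_planes hn)
  have hdpos : 0 < d := hd.pos
  obtain ⟨χ, hχ⟩ := Blocks.Deflate.exists_deflation (Subgroup.center (Matrix.SpecialLinearGroup (Fin n) F)) _ hirr (by
    rw [Finset.sum_congr rfl (g := fun _ => flagChar (Matrix.SpecialLinearGroup.toLin' (n := Fin n) (R := F)) (planes F n) Ψ 1)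
      (fun z _ => ?_)]
    · rw [Finset.sum_const, hone, nsmul_eq_mul, ← Nat.cast_mul, Nat.cast_ne_zero]
      exact Nat.mul_ne_zero (Finset.card_ne_zero_of_mem (Finset.mem_univ 1)) (Nat.mul_ne_zero hpos.ne' hdpos.ne')
    · obtain ⟨r, hr, hz⟩ := (Matrix.SpecialLinearGroup.mem_center_iff).1 z.2
      have hr0 : r ≠ 0 := by
        rintro rfl
        rw [Fintype.card_fin, zero_pow (by omega)] at hr
        exact zero_ne_one hr
      refine flagChar_scalar (Matrix.SpecialLinearGroup.toLin' (n := Fin n) (R := F)) (planes F n) hcf (fun W hW => hW)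
        (c := Units.mk0 r hr0) (fun v => ?_) (hs _)
      rw [Matrix.SpecialLinearGroup.toLin'_apply, ← hz, Matrix.toLin'_apply, Matrix.scalar_apply]
      ext i
      rw [Matrix.mulVec_diagonal]
      rfl)
  have hval : ∀ g, flagChar (Matrix.SpecialLinearGroup.toLin' (n := Fin n) (R := F)) (planes F n) Ψ g =
      (χ : (Matrix.SpecialLinearGroup (Fin n) F ⧸ Subgroup.center (Matrix.SpecialLinearGroup (Fin n) F)) → ℂ)
        (QuotientGroup.mk g) := fun g => congrFun hχ g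
  refine ⟨χ, χ.2, ?_, ⟨Nat.card (planes F n) * d, (odd_card_planes hF (by omega)).mul hd, ?_⟩, ?_⟩
  · intro h
    have h1 := hval 1
    rw [hone, h, Pi.one_apply, ← Nat.cast_one, Nat.cast_inj] at h1
    have := one_lt_card_planes (F := F) hn
    have h2 := Nat.eq_one_of_mul_eq_one_right h1
    omega
  · have h1 := hval 1
    rw [hone] at h1
    exact h1.symm
  · intro g
    obtain ⟨g, rfl⟩ := QuotientGroup.mk_surjective g
    obtain ⟨q, hq⟩ := flagChar_mem (Matrix.SpecialLinearGroup.toLin' (n := Fin n) (R := F)) (planes F n)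
      (algebraMap ℚ ℂ).range (Ψ := Ψ) (fun A => by
        obtain ⟨q, hq⟩ := hrat A
        exact ⟨q, by rw [hq]; rfl⟩) g
    refine ⟨q, ?_⟩
    have h1 := hval g
    rw [← hq] at h1
    exact h1.symm

/-! ### `q ≡ 1 (mod 3)` -/

theorem exists_mu {F : Type u} [Field F] [Fintype F] (h : 3 ∣ Fintype.card F - 1) :
    ∃ μ : Fˣ →* ℂˣ, μ ^ 3 = 1 ∧ μ ≠ 1 := by
  obtain ⟨θ, hθ⟩ := H139.Cusp.exists_theta F
  obtain ⟨a, ha⟩ := h
  have hq : 1 < Fintype.card F := Fintype.one_lt_card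
  have hcard : Nat.card Fˣ = 3 * a := by
    rw [Nat.card_units, Nat.card_eq_fintype_card, ha]
  let μ₀ : Fˣ →* ℂˣ := Units.map (θ : F →* ℂ)
  have hμ₀ : Function.Injective μ₀ := fun x y h => Units.ext (hθ (congrArg Units.val h))
  refine ⟨μ₀ ^ a, ?_, ?_⟩
  · ext1 x
    rw [MonoidHom.pow_apply, MonoidHom.pow_apply, ← pow_mul, mul_comm a 3, ← hcard, ← map_pow, pow_card_eq_one',
      map_one]
    rfl
  · intro h
    obtain ⟨γ, hγ⟩ := IsCyclic.exists_ofOrder_eq_natCard (α := Fˣ)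
    have h1 := DFunLike.congr_fun h γ
    rw [MonoidHom.pow_apply, ← map_pow] at h1
    have h2 : γ ^ a = 1 := hμ₀ (by rw [h1, map_one]; rfl)
    have h3 := orderOf_dvd_of_pow_eq_one h2
    rw [hγ, hcard] at h3
    have h4 := Nat.le_of_dvd (by omega) h3
    omega

theorem sigma_scalar_one {F : Type u} [Field F] [Fintype F] {μ : Fˣ →* ℂˣ} (h3 : μ ^ 3 = 1) (c : Fˣ) :
    sigma μ (GeneralLinearGroup.scalar (Fin 2) c) = sigma μ 1 := by
  rw [← sigma_scalar μ h3 c 1, mul_one]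

/-- `n ≥ 4`, `q ≡ 1 (mod 3)` -/
theorem psl_one_mod {F : Type u} [Field F] [Fintype F] (hF : Even (Fintype.card F)) {n : ℕ} (hn : 4 ≤ n)
    (h : 3 ∣ Fintype.card F - 1) : RatOdd (Matrix.ProjectiveSpecialLinearGroup (Fin n) F) := by
  obtain ⟨μ, h3, hμ⟩ := exists_mu h
  have : Finite (Matrix.SpecialLinearGroup (Fin n) F) := inferInstance
  let _ : Fintype (Matrix.SpecialLinearGroup (Fin n) F) := Fintype.ofFinite _
  exact ratOdd_psl hF (by omega) (sigma_isIrr μ hμ) (sigma_rat μ h3 hμ) (sigma_scalar_one h3)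
    ⟨_, odd_card_lines hF, sigma_one μ⟩ (isIrr_sigma μ h3 hμ hn _ slSurj)

/-! ### `q ≡ 2 (mod 3)` -/

theorem even_card {F : Type u} [Field F] [Fintype F] [CharP F 2] : Even (Fintype.card F) := by
  rw [Nat.even_iff]
  exact FiniteField.even_card_of_char_two (ringChar.eq F 2)

section Cusp

attribute [local instance] Cfsg.Agent.H139.Cusp.fintypeHom Cfsg.Agent.H139.Cusp.fintypeSub

theorem kap_mem {F : Type u} [Field F] {V : Type v} [AddCommGroup V] [Module F V] [Finite V] {S : Subring ℂ}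
    {B : F[X] → ℂ} (hB : ∀ f, B f ∈ S) (g : V →ₗ[F] V) (W : Submodule F V) : H139.Cusp.kap B g W ∈ S := by
  classical
  induction W using WellFoundedLT.induction with
  | ind W ih =>
    by_cases h : W ≤ W.comap g
    · rw [H139.Cusp.kap_eq B h]
      exact S.sub_mem (hB _) (S.sum_mem fun W' hW' => ih W' (Finset.mem_filter.1 hW').2)
    · rw [H139.Cusp.kap_of_not B h]
      exact S.zero_mem

theorem psi_mem {F : Type u} [Field F] [Finite F] (L : Type w) [Field L] [Algebra F L] (θ : L →*₀ ℂ) {n : ℕ}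
    {S : Subring ℂ} (hS : ∀ x, θ x ∈ S) (g : GL (Fin n) F) : H139.Cusp.psi L θ g ∈ S := by
  rw [H139.Cusp.psi, H139.Cusp.cuspMat, H139.Cusp.cusp]
  refine S.mul_mem (S.pow_mem (S.neg_mem S.one_mem) _) (kap_mem (fun f => ?_) _ _)
  rw [H139.Cusp.lb]
  refine Subring.multiset_sum_mem S _ fun z hz => ?_
  obtain ⟨x, -, rfl⟩ := Multiset.mem_map.1 hz
  exact hS x

end Cusp

/-- **A rational cuspidal character of odd degree of `GL_2(q)`**, `q` even, `q ≡ 2 (mod 3)` -/
theorem exists_cusp {F : Type u} [Field F] [Fintype F] [CharP F 2] (h : 3 ∣ Fintype.card F + 1) :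
    ∃ Ψ : GL (Fin 2) F → ℂ, IsIrrCharacter _ Ψ ∧ IsCusp Ψ ∧ (∀ A, ∃ q : ℚ, Ψ A = q) ∧
      (∀ c : Fˣ, Ψ (GeneralLinearGroup.scalar (Fin 2) c) = Ψ 1) ∧ (∃ d : ℕ, Odd d ∧ Ψ 1 = d) := by
  have hp : Fact (Nat.Prime 2) := ⟨Nat.prime_two⟩
  have hq1 : 1 < Fintype.card F := Fintype.one_lt_card
  have hqe : Even (Fintype.card F) := even_card (F := F)
  let L := FiniteField.Extension F 2 2
  have hL : finrank F L = 2 := FiniteField.finrank_extension F 2 2
  obtain ⟨θ₀, hθ₀⟩ := H139.Cusp.exists_theta L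
  obtain ⟨k, hk⟩ := h
  obtain ⟨r, hr⟩ : ∃ r, Fintype.card F = r + 1 := ⟨Fintype.card F - 1, by omega⟩
  have hcardL : Nat.card Lˣ = 3 * (r * k) := by
    have h1 : Nat.card L = (r + 1) ^ 2 := by
      rw [Module.natCard_eq_pow_finrank (K := F), hL, Nat.card_eq_fintype_card, hr]
    rw [Nat.card_units, h1]
    have h2 : (r + 1) ^ 2 = r * (r + 1 + 1) + 1 := by ring
    rw [h2, ← hr, hk]
    simp only [Nat.add_sub_cancel]
    ring
  have ha : r * k ≠ 0 := by
    intro h0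
    rw [h0, mul_zero] at hcardL
    have : 0 < Nat.card Lˣ := Nat.card_pos
    omega
  have hcardF : Nat.card F = r + 1 := by rw [Nat.card_eq_fintype_card, hr]
  have hreg : H139.Cusp.Regular F 2 (H139.Cusp.powTheta θ₀ (r * k) ha) := by
    rw [H139.Cusp.regular_powTheta_iff hθ₀ ha hL]
    intro i hi hi2 hdvd
    have hi1 : i = 1 := by omega
    subst hi1
    have h1 : Nat.card F ^ 2 - 1 = (r * k) * 3 := by
      rw [mul_comm, ← hcardL, Nat.card_units, Module.natCard_eq_pow_finrank (K := F) (V := L), hL]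
    rw [h1, hcardF, pow_one, Nat.add_sub_cancel] at hdvd
    have h2 := Nat.dvd_of_mul_dvd_mul_left (Nat.pos_of_ne_zero ha) hdvd
    omega
  have hθ3 : ∀ x, H139.Cusp.powTheta θ₀ (r * k) ha x ∈ Subring.closure {z : ℂ | z ^ 3 = 1} := by
    intro x
    by_cases hx : x = 0
    · rw [hx, map_zero]
      exact Subring.zero_mem _
    · apply Subring.subset_closure
      change (θ₀ x ^ (r * k)) ^ 3 = 1
      rw [← pow_mul, mul_comm (r * k) 3, ← hcardL, ← map_pow]
      have h3 : (Units.mk0 x hx) ^ Nat.card Lˣ = 1 := pow_card_eq_one'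
      have h4 : x ^ Nat.card Lˣ = 1 := congrArg Units.val h3
      rw [h4, map_one]
  have hirr := H139.Cusp.psi_isIrr (n := 2) (H139.Cusp.powTheta θ₀ (r * k) ha) hL hreg
  have hs : ∀ (c : Fˣ) (A : GL (Fin 2) F),
      H139.Cusp.psi L (H139.Cusp.powTheta θ₀ (r * k) ha) (GeneralLinearGroup.scalar (Fin 2) c * A) =
      H139.Cusp.psi L (H139.Cusp.powTheta θ₀ (r * k) ha) A := by
    intro c A
    rw [H139.Cusp.psi_scalar _ hL, H139.Cusp.powTheta_algebraMap ha (by
      rw [hcardF, Nat.add_sub_cancel]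
      exact dvd_mul_right _ _) c.ne_zero, one_mul]
  refine ⟨H139.Cusp.psi L (H139.Cusp.powTheta θ₀ (r * k) ha), hirr, H139.Cusp.psi_isCusp L _, ?_, ?_, ?_⟩
  · refine GowReal.rat_of_real (Core.isIrr_isCharacter hirr) hs fun τ A => ?_
    rcases GowReal.cube_cases τ with h | h
    · left
      exact GowReal.eqOn_closure (τ : ℂ →+* ℂ) (RingHom.id ℂ) h (psi_mem L _ hθ3 A)
    · right
      exact GowReal.eqOn_closure (τ : ℂ →+* ℂ) (starRingEnd ℂ) h (psi_mem L _ hθ3 A)
  · intro c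
    rw [← hs c 1, mul_one]
  · refine ⟨_, ?_, H139.Cusp.psi_one L _ (by norm_num)⟩
    rw [H139.Cusp.degP]
    simp only [Nat.reduceSub, Finset.range_one, Finset.prod_singleton, zero_add]
    rw [Nat.card_eq_fintype_card]
    exact odd_pow_sub_one hqe one_ne_zero (by omega)

/-- `n ≥ 3`, `q ≡ 2 (mod 3)` -/
theorem psl_two_mod {F : Type u} [Field F] [Fintype F] [CharP F 2] {n : ℕ} (hn : 3 ≤ n)
    (h : 3 ∣ Fintype.card F + 1) : RatOdd (Matrix.ProjectiveSpecialLinearGroup (Fin n) F) := by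
  obtain ⟨Ψ, h1, h2, h3, h4, h5⟩ := exists_cusp h
  have : Finite (Matrix.SpecialLinearGroup (Fin n) F) := inferInstance
  let _ : Fintype (Matrix.SpecialLinearGroup (Fin n) F) := Fintype.ofFinite _
  exact ratOdd_psl even_card hn h1 h3 h4 h5 (isIrr_cusp hn _ slSurj h1 h2)

theorem mod_three {F : Type u} [Field F] [Fintype F] [CharP F 2] :
    3 ∣ Fintype.card F - 1 ∨ 3 ∣ Fintype.card F + 1 := by
  have hp : Fact (Nat.Prime 2) := ⟨Nat.prime_two⟩
  obtain ⟨k, -, hk⟩ := FiniteField.card F 2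
  rw [hk]
  have h1 : ¬ 3 ∣ 2 ^ (k : ℕ) := by
    intro h
    have := (Nat.prime_three.dvd_of_dvd_pow h)
    norm_num at this
  have h2 : 0 < 2 ^ (k : ℕ) := by positivity
  omega

/-- **`PSL_n(q)`, `n ≥ 4`, `q` even** -/
theorem psl (F : Type*) [Field F] [Fintype F] [CharP F 2] (n : ℕ) (hn : 4 ≤ n) :
    RatOdd (Matrix.ProjectiveSpecialLinearGroup (Fin n) F) := by
  rcases mod_three (F := F) with h | h
  · exact psl_one_mod even_card hn h
  · exact psl_two_mod (by omega) h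

end Cfsg.Agent.H61.GowPsl
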