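import Cfsg.Agent.H53.HC.Flag

/-!
# A criterion for the irreducibility of `flagChar` (helper61)

A variant of `H53.HC.isIrr_flagChar`: for every member `W' ≠ W₀` of `Ω` there is a group `U` of automorphisms of `W₀`,
all of them induced by elements of `G` which are trivial on `W'`, such that the sum of `Ψ` over `U` vanishes.
-/

set_option autoImplicit false

open scoped ComplexConjugate
open Cfsg

namespace Cfsg.Agent.H61.GowFlag

open Cfsg.Agent.OddOrderCharacters.Clifford Cfsg.Agent.Characters MulAction Module Cfsg.Agent.H53.HC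

universe u v w

variable {K : Type u} [Field K] {n : ℕ} {V : Type v} [AddCommGroup V] [Module K V] {G : Type w} [Group G]

/-- the elements trivial on a subspace -/
def fixG (ρ : G →* (V ≃ₗ[K] V)) (W : Submodule K V) : Subgroup G where
  carrier := {g | ∀ w ∈ W, ρ g w = w}
  one_mem' := fun _ _ => by rw [map_one]; rfl
  mul_mem' := by
    intro x y hx hy w hw
    rw [map_mul, LinearEquiv.mul_apply, hy w hw, hx w hw]
  inv_mem' := by
    intro x hx w hw
    have h1 : ρ x⁻¹ (ρ x w) = w := by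
      rw [← LinearEquiv.mul_apply, ← map_mul, inv_mul_cancel, map_one]; rfl
    rwa [hx w hw] at h1

/-- **Irreducibility of `flagChar`, general form.** -/
theorem isIrr_flagChar' [Fintype G] (ρ : G →* (V ≃ₗ[K] V)) (Ω : Set (Submodule K V)) [Fintype Ω]
    [FiniteDimensional K V] [Finite V] [Finite K]
    (hΩ : ∀ g : G, ∀ W ∈ Ω, W.map (ρ g : V →ₗ[K] V) ∈ Ω)
    {W₀ : Submodule K V} (hW₀ : W₀ ∈ Ω) (htr : ∀ W ∈ Ω, ∃ g : G, W₀.map (ρ g : V →ₗ[K] V) = W)
    (hdim : finrank K W₀ = n) {Ψ : GL (Fin n) K → ℂ} (hΨ : IsIrrCharacter _ Ψ)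
    (hsurj : ∀ a : W₀ ≃ₗ[K] W₀, ∃ g : G, ∀ w : W₀, ρ g w = a w)
    (hL : ∀ W' ∈ Ω, W' ≠ W₀ → ∃ U : Subgroup (W₀ ≃ₗ[K] W₀),
      (∀ u ∈ U, ∃ g : G, (∀ w : W₀, ρ g w = u w) ∧ ∀ w' ∈ W', ρ g w' = w') ∧
      ∀ [Fintype U], ∑ u : U, cl Ψ (u : W₀ ≃ₗ[K] W₀) = 0) :
    IsIrrCharacter G (flagChar ρ Ω Ψ) := by
  classical
  have hcf := Core.isIrr_isClassFunction hΨ
  let _ := subAct ρ Ω hΩ
  have : IsPretransitive G Ω := by
    refine ⟨fun W W' => ?_⟩
    obtain ⟨g, hg⟩ := htr W.1 W.2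
    obtain ⟨g', hg'⟩ := htr W'.1 W'.2
    refine ⟨g' * g⁻¹, ?_⟩
    have e1 : g • (⟨W₀, hW₀⟩ : Ω) = W := Subtype.ext hg
    have e2 : g' • (⟨W₀, hW₀⟩ : Ω) = W' := Subtype.ext hg'
    rw [← e1, mul_smul, inv_smul_smul, e2]
  rw [flagChar_eq_orbSum ρ Ω hΩ]
  have b₀ : Basis (Fin n) K W₀ := (finBasisOfFinrankEq K W₀ hdim)
  have hGW : Finite (V ≃ₗ[K] V) := Finite.of_injective (fun e : V ≃ₗ[K] V => (e : V → V)) DFunLike.coe_injective
  have hGW0 : ∀ W : Submodule K V, Finite (W ≃ₗ[K] W) := fun W =>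
    Finite.of_injective (fun e : W ≃ₗ[K] W => (e : W → W)) DFunLike.coe_injective
  have hGL : Finite (GL (Fin n) K) := inferInstance
  let _ : Fintype (GL (Fin n) K) := Fintype.ofFinite _
  refine isIrr_orbSum (fun g (W : Ω) => flagTerm ρ Ψ g W.1) (fun x g W => flagTerm_conj ρ hcf x g W.1) ⟨W₀, hW₀⟩ ?_ ?_
  · -- irreducibility on the stabiliser
    have hst : ∀ g : stabilizer G (⟨W₀, hW₀⟩ : Ω), (g : G) ∈ stabW ρ W₀ := fun g =>
      congrArg Subtype.val (mem_stabilizer_iff.1 g.2)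
    let f : stabilizer G (⟨W₀, hW₀⟩ : Ω) →* GL (Fin n) K :=
      (glE b₀).toMonoidHom.comp ((resHom ρ W₀).comp
        { toFun := fun g => ⟨g, hst g⟩
          map_one' := rfl
          map_mul' := fun _ _ => rfl })
    have hf : Function.Surjective f := by
      intro A
      obtain ⟨a, rfl⟩ := (glE b₀).surjective A
      obtain ⟨g, hg⟩ := hsurj a
      have hg1 : W₀.map (ρ g : V →ₗ[K] V) = W₀ := map_eq_of_le ρ fun w hw => by
        rw [hg ⟨w, hw⟩]; exact (a ⟨w, hw⟩).2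
      refine ⟨⟨g, mem_stabilizer_iff.2 (Subtype.ext hg1)⟩, ?_⟩
      change glE b₀ (res (ρ g) W₀ hg1) = glE b₀ a
      congr 1
      ext w
      exact hg w
    have e1 : stabFun (fun g (W : Ω) => flagTerm ρ Ψ g W.1) (⟨W₀, hW₀⟩ : Ω) = Ψ ∘ f := by
      ext g
      change flagTerm ρ Ψ (g : G) W₀ = _
      rw [flagTerm_of ρ Ψ (hst g), cl_eq hcf b₀]
      rfl
    rw [e1]
    exact Core.isIrr_comp f hf hΨ
  · rintro ⟨W', hW'⟩ hne
    have hne' : W' ≠ W₀ := fun e => hne (Subtype.ext e)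
    obtain ⟨g₁, hg₁⟩ := htr W' hW'
    have hdim' : finrank K W' = n := by rw [← hg₁, ← hdim]; exact LinearEquiv.finrank_map_eq (ρ g₁) W₀
    have b₁ : Basis (Fin n) K W' := (finBasisOfFinrankEq K W' hdim')
    obtain ⟨U, hU, hsum⟩ := hL W' hW' hne'
    let L : Subgroup G := (U.comap (resHom ρ W₀)).map (stabW ρ W₀).subtype ⊓ fixG ρ W'
    have hL0 : ∀ l ∈ L, l ∈ stabW ρ W₀ := by
      rintro l ⟨⟨x, -, rfl⟩, -⟩
      exact x.2
    have hLU : ∀ (l : G) (hl : l ∈ L), resHom ρ W₀ ⟨l, hL0 l hl⟩ ∈ U := by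
      rintro l ⟨⟨x, hx, rfl⟩, hl2⟩
      exact hx
    have hL1 : ∀ l ∈ L, W'.map (ρ l : V →ₗ[K] V) = W' := fun l hl => map_eq_of_le ρ fun w hw => by
      rw [hl.2 w hw]; exact hw
    refine ⟨L, fun l hl => mem_stabilizer_iff.2 (Subtype.ext (hL0 l hl)),
      fun l hl => mem_stabilizer_iff.2 (Subtype.ext (hL1 l hl)), fun {_} => ?_⟩
    let _ : Fintype U := Fintype.ofFinite _
    let f : L →* U :=
      { toFun := fun l => ⟨resHom ρ W₀ ⟨l, hL0 l l.2⟩, hLU l l.2⟩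
        map_one' := by
          apply Subtype.ext
          ext w
          change (ρ 1) (w : V) = w
          rw [map_one]
          rfl
        map_mul' := fun x y => by
          apply Subtype.ext
          ext w
          change (ρ ((x : G) * (y : G))) (w : V) = ρ x (ρ y w)
          rw [map_mul]
          rfl }
    have hf : Function.Surjective f := by
      rintro ⟨a, ha⟩
      obtain ⟨g, hg, hg'⟩ := hU a ha
      have hg1 : W₀.map (ρ g : V →ₗ[K] V) = W₀ := map_eq_of_le ρ fun w hw => by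
        rw [hg ⟨w, hw⟩]; exact (a ⟨w, hw⟩).2
      have hga : resHom ρ W₀ ⟨g, hg1⟩ = a := by
        ext w
        exact hg w
      have hgL : g ∈ L := ⟨⟨⟨g, hg1⟩, by change resHom ρ W₀ ⟨g, hg1⟩ ∈ U; rwa [hga], rfl⟩, hg'⟩
      exact ⟨⟨g, hgL⟩, Subtype.ext hga⟩
    have e1 : ∀ l : L, flagTerm ρ Ψ l W₀ * conj (flagTerm ρ Ψ l W') =
        (fun u : U => cl Ψ (u : W₀ ≃ₗ[K] W₀) * conj (Ψ 1)) (f l) := by
      intro l
      rw [flagTerm_of ρ Ψ (hL0 l l.2), flagTerm_of ρ Ψ (hL1 l l.2)]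
      have e2 : res (ρ (l : G)) W' (hL1 l l.2) = 1 := by
        ext w
        exact l.2.2 w w.2
      rw [e2, cl_one hcf b₁]
      rfl
    change ∑ l : L, flagTerm ρ Ψ l W₀ * conj (flagTerm ρ Ψ l W') = 0
    rw [Finset.sum_congr rfl fun l _ => e1 l,
      sum_comp_hom f hf (fun u : U => cl Ψ (u : W₀ ≃ₗ[K] W₀) * conj (Ψ 1)), ← Finset.sum_mul,
      hsum, zero_mul, mul_zero]

/-- the values of `flagChar` in a subring -/
theorem flagChar_mem (ρ : G →* (V ≃ₗ[K] V)) (Ω : Set (Submodule K V)) [Fintype Ω] {Ψ : GL (Fin n) K → ℂ}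
    (S : Subring ℂ) (hS : ∀ A, Ψ A ∈ S) (g : G) : flagChar ρ Ω Ψ g ∈ S := by
  classical
  unfold flagChar
  refine sum_mem fun W _ => ?_
  unfold flagTerm
  split_ifs with h
  · unfold cl
    split_ifs with h'
    · exact hS _
    · exact S.zero_mem
  · exact S.zero_mem

end Cfsg.Agent.H61.GowFlag
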