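import Cfsg.Agent.H636.Gow.Par

/-!
# Characters of `PGL_2` are real (helper61)

* `exists_conj_inv` : in `GL_2(F)` every `A` is conjugate to `det A • A⁻¹`;
* `conj_eq` : a character of `GL_2(F)`, `F` finite, trivial on scalars is real;
* `rat_of_real` : and it is rational-valued if every automorphism of `ℂ` acts on its values as `1` or as the complex
  conjugation.
-/

set_option autoImplicit false

open scoped ComplexConjugate MatrixGroups
open Cfsg

namespace Cfsg.Agent.H61.GowReal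

open Cfsg.Agent.Characters Cfsg.Agent.Characters.Core Matrix

universe u

theorem exists_conj_inv {F : Type u} [Field F] (A : GL (Fin 2) F) :
    ∃ x : GL (Fin 2) F, x * A * x⁻¹ = GeneralLinearGroup.scalar (Fin 2) (GeneralLinearGroup.det A) * A⁻¹ := by
  obtain ⟨a, b, c, d, hA⟩ : ∃ a b c d, (A : Matrix (Fin 2) (Fin 2) F) = !![a, b; c, d] :=
    ⟨_, _, _, _, Matrix.eta_fin_two _⟩
  have hadj : ((GeneralLinearGroup.scalar (Fin 2) (GeneralLinearGroup.det A) * A⁻¹ : GL (Fin 2) F) :
      Matrix (Fin 2) (Fin 2) F) = !![d, -b; -c, a] := by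
    have h1 : (A : Matrix (Fin 2) (Fin 2) F).adjugate = !![d, -b; -c, a] := by
      rw [hA, Matrix.adjugate_fin_two_of]
    have h2 : (A : Matrix (Fin 2) (Fin 2) F).det ≠ 0 := (Matrix.isUnit_iff_isUnit_det _).1 A.isUnit |>.ne_zero
    rw [← h1, Units.val_mul, GeneralLinearGroup.coe_scalar, Matrix.scalar_apply, ← smul_eq_diagonal_mul,
      Matrix.coe_units_inv, Matrix.inv_def, smul_smul, Ring.inverse_eq_inv', GeneralLinearGroup.val_det_apply,
      mul_inv_cancel₀ h2, one_smul]
  suffices h : ∃ x : Matrix (Fin 2) (Fin 2) F, x.det ≠ 0 ∧ x * !![a, b; c, d] = !![d, -b; -c, a] * x by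
    obtain ⟨x, hx, hx'⟩ := h
    refine ⟨GeneralLinearGroup.mkOfDetNeZero x hx, ?_⟩
    rw [mul_inv_eq_iff_eq_mul]
    apply Units.ext
    rw [Units.val_mul, Units.val_mul, hadj, hA]
    exact hx'
  by_cases hb : b = 0
  · by_cases hc : c = 0
    · refine ⟨!![0, 1; 1, 0], by simp [Matrix.det_fin_two], ?_⟩
      subst hb hc
      ext i j
      fin_cases i <;> fin_cases j <;> simp [Matrix.mul_apply, Fin.sum_univ_two]
    · refine ⟨!![c, d - a; 0, -c], by simp [Matrix.det_fin_two, hc], ?_⟩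
      subst hb
      ext i j
      fin_cases i <;> fin_cases j <;> simp [Matrix.mul_apply, Fin.sum_univ_two] <;> ring
  · refine ⟨!![b, 0; d - a, -b], by simp [Matrix.det_fin_two, hb], ?_⟩
    ext i j
    fin_cases i <;> fin_cases j <;> simp [Matrix.mul_apply, Fin.sum_univ_two] <;> ring

section Char

variable {F : Type u} [Field F] [Finite F] {Ψ : GL (Fin 2) F → ℂ}

/-- **Characters of `PGL_2` are real.** -/
theorem conj_eq (hΨ : IsCharacter _ Ψ) (hs : ∀ (c : Fˣ) (A : GL (Fin 2) F),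
    Ψ (GeneralLinearGroup.scalar (Fin 2) c * A) = Ψ A) (A : GL (Fin 2) F) : conj (Ψ A) = Ψ A := by
  obtain ⟨x, hx⟩ := exists_conj_inv A
  rw [← isCharacter_apply_inv hΨ A, ← hs (GeneralLinearGroup.det A) A⁻¹, ← hx]
  exact isCharacter_isClassFunction hΨ _ _

/-- **Rationality.** -/
theorem rat_of_real (hΨ : IsCharacter _ Ψ) (hs : ∀ (c : Fˣ) (A : GL (Fin 2) F),
    Ψ (GeneralLinearGroup.scalar (Fin 2) c * A) = Ψ A)
    (hgal : ∀ (τ : ℂ ≃+* ℂ) (A : GL (Fin 2) F), τ (Ψ A) = Ψ A ∨ τ (Ψ A) = conj (Ψ A)) (A : GL (Fin 2) F) :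
    ∃ q : ℚ, Ψ A = q := by
  have : Finite (GL (Fin 2) F) := inferInstance
  apply GaloisBasic.exists_rat_of_forall_ringEquiv
  · exact (GaloisBasic.isIntegral_apply hΨ A).tower_top
  · intro τ
    rcases hgal τ A with h | h
    · exact h
    · rw [h, conj_eq hΨ hs]

end Char

/-- Two ring homomorphisms `ℂ → ℂ` which agree on the generators of a subring agree on it. -/
theorem eqOn_closure {S : Set ℂ} (f g : ℂ →+* ℂ) (h : ∀ s ∈ S, f s = g s) {z : ℂ} (hz : z ∈ Subring.closure S) :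
    f z = g z :=
  RingHom.eqOn_set_closure (f := f) (g := g) h hz

/-- The action of an automorphism of `ℂ` on the cube roots of unity. -/
theorem cube_cases (τ : ℂ ≃+* ℂ) : (∀ z : ℂ, z ^ 3 = 1 → τ z = z) ∨ (∀ z : ℂ, z ^ 3 = 1 → τ z = conj z) := by
  have hω : ∃ ω : ℂ, ω ^ 3 = 1 ∧ ω ≠ 1 := by
    have h := Complex.isPrimitiveRoot_exp 3 (by norm_num)
    exact ⟨_, h.pow_eq_one, h.ne_one (by norm_num)⟩
  obtain ⟨ω, hω, hω1⟩ := hω
  have hroot : ∀ z : ℂ, z ^ 3 = 1 → z = 1 ∨ z = ω ∨ z = ω ^ 2 := by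
    intro z hz
    have hprim : IsPrimitiveRoot ω 3 := by
      have : orderOf ω = 3 := orderOf_eq_prime hω hω1
      rw [← this]
      exact IsPrimitiveRoot.orderOf ω
    obtain ⟨i, hi, rfl⟩ := hprim.eq_pow_of_pow_eq_one hz
    interval_cases i
    · left; simp
    · right; left; simp
    · right; right; rfl
  have hconj : ∀ z : ℂ, z ^ 3 = 1 → conj z = z ^ 2 := by
    intro z hz
    have h1 : ‖z‖ = 1 := Complex.norm_eq_one_of_pow_eq_one hz (by norm_num)
    have hz0 : z ≠ 0 := by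
      rintro rfl
      norm_num at hz
    have h2 : z * conj z = 1 := by
      rw [Complex.mul_conj, Complex.normSq_eq_norm_sq, h1]; norm_num
    apply mul_left_cancel₀ hz0
    rw [h2, ← hz]; ring
  have hτ : (τ ω) ^ 3 = 1 := by rw [← map_pow, hω, map_one]
  have hτ1 : τ ω ≠ 1 := by
    intro h
    apply hω1
    apply τ.injective
    rw [h, map_one]
  rcases hroot _ hτ with h | h | h
  · exact absurd h hτ1
  · left
    intro z hz
    rcases hroot z hz with rfl | rfl | rfl
    · exact map_one τ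
    · exact h
    · rw [map_pow, h]
  · right
    intro z hz
    rw [hconj z hz]
    rcases hroot z hz with rfl | rfl | rfl
    · rw [map_one, one_pow]
    · exact h
    · rw [map_pow, h]

end Cfsg.Agent.H61.GowReal
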