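import Cfsg.Agent.H61.GowFlag
import Cfsg.Agent.H61.GowGlue
import Cfsg.Agent.H61.GowReal
import Cfsg.Agent.H950.Count
import Cfsg.Agent.CharactersDeep.ExtUnique

/-!
# A principal series character of `GL_2(q)` (helper61)

`μ : Fˣ →* ℂˣ`; `sigma μ A = μ(det A) ∑ μ(A | p)`, the sum over the `A`-invariant lines `p` of `F²`.
-/

set_option autoImplicit false

open scoped ComplexConjugate MatrixGroups
open Cfsg

namespace Cfsg.Agent.H61.GowSigma

open Cfsg.Agent.Characters Cfsg.Agent.H53.HC Module Cfsg.Agent.H61.GowFlag Cfsg.Agent.H61.GowGlue Matrix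

universe u v w

variable {F : Type u} [Field F] (μ : Fˣ →* ℂˣ)

/-- the linear character `μ ∘ det` -/
noncomputable def lin (n : ℕ) (A : GL (Fin n) F) : ℂ := (μ (GeneralLinearGroup.det A) : ℂ)

theorem lin_isIrr (n : ℕ) : IsIrrCharacter (GL (Fin n) F) (lin μ n) := by
  have h := CharactersDeep.ExtUnique.isIrr_mul_hom (Core.isIrr_one (G := GL (Fin n) F))
    (μ.comp (GeneralLinearGroup.det (n := Fin n) (R := F)))
  have e : (fun g : GL (Fin n) F => (1 : GL (Fin n) F → ℂ) g * ((μ.comp (GeneralLinearGroup.det)) g : ℂ)) =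
      lin μ n := by
    funext g
    rw [Pi.one_apply, one_mul]
    rfl
  rwa [e] at h

theorem det_glE {n : ℕ} {W : Type v} [AddCommGroup W] [Module F W] (b : Basis (Fin n) F W) (f : W ≃ₗ[F] W) :
    GeneralLinearGroup.det (glE b f) = LinearEquiv.det f := by
  apply Units.ext
  rw [GeneralLinearGroup.val_det_apply, coe_glE, LinearMap.det_toMatrix, LinearEquiv.coe_det]

theorem cl_lin {n : ℕ} {W : Type v} [AddCommGroup W] [Module F W] [Finite F] (hn : finrank F W = n) [Finite W]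
    (f : W ≃ₗ[F] W) : cl (lin μ n) f = (μ (LinearEquiv.det f) : ℂ) := by
  have : FiniteDimensional F W := Module.Finite.of_finite
  have b : Basis (Fin n) F W := finBasisOfFinrankEq F W hn
  rw [cl_eq (Core.isIrr_isClassFunction (lin_isIrr μ n)) b, lin, det_glE]

section Flag

variable [Finite F] {V : Type v} [AddCommGroup V] [Module F V] [Finite V] {G : Type w} [Group G]
  (ρ : G →* (V ≃ₗ[F] V))

theorem flagTerm_lin {n : ℕ} {W : Submodule F V} (hW : finrank F W = n) {g : G} (h : W.map (ρ g : V →ₗ[F] V) = W) :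
    flagTerm ρ (lin μ n) g W = (μ (LinearEquiv.det (res (ρ g) W h)) : ℂ) := by
  rw [flagTerm_of ρ _ h, cl_lin μ hW]

/-- multiplicativity -/
theorem flagTerm_lin_mul {n : ℕ} {W : Submodule F V} (hW : finrank F W = n) {g : G}
    (hg : W.map (ρ g : V →ₗ[F] V) = W) (h : G) :
    flagTerm ρ (lin μ n) (g * h) W = flagTerm ρ (lin μ n) g W * flagTerm ρ (lin μ n) h W := by
  by_cases hh : W.map (ρ h : V →ₗ[F] V) = W
  · have hgh := map_mul_of ρ hg hh
    rw [flagTerm_lin μ ρ hW hg, flagTerm_lin μ ρ hW hh, flagTerm_lin μ ρ hW hgh, ← Units.val_mul, ← map_mul,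
      ← map_mul]
    congr 3
    ext w
    change ρ (g * h) w = ρ g (ρ h w)
    rw [map_mul]
    rfl
  · have hgh : ¬ W.map (ρ (g * h) : V →ₗ[F] V) = W := by
      intro h'
      apply hh
      rw [map_mul_apply] at h'
      exact Submodule.map_injective_of_injective (ρ g).injective (h'.trans hg.symm)
    unfold flagTerm
    rw [dif_neg hh, dif_neg hgh, mul_zero]

/-- the value on a line -/
theorem flagTerm_span {p : Submodule F V} (hp : finrank F p = 1) {y : V} (hy : y ∈ p) (hy0 : y ≠ 0) {g : G} {c : Fˣ}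
    (h : ρ g y = (c : F) • y) : ∃ _ : p.map (ρ g : V →ₗ[F] V) = p, flagTerm ρ (lin μ 1) g p = (μ c : ℂ) := by
  have : FiniteDimensional F V := Module.Finite.of_finite
  have hspan : ∀ x ∈ p, ∃ a : F, x = a • y := by
    intro x hx
    obtain ⟨a, ha⟩ := (finrank_eq_one_iff_of_nonzero' (⟨y, hy⟩ : p) (fun h => hy0 (congrArg Subtype.val h))).1 hp
      ⟨x, hx⟩
    exact ⟨a, (congrArg Subtype.val ha).symm⟩
  have hact : ∀ x ∈ p, ρ g x = (c : F) • x := by
    intro x hx
    obtain ⟨a, rfl⟩ := hspan x hx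
    rw [map_smul, h, smul_comm]
  have hmap : p.map (ρ g : V →ₗ[F] V) = p := map_eq_of_le ρ fun x hx => by
    rw [hact x hx]; exact p.smul_mem _ hx
  refine ⟨hmap, ?_⟩
  rw [flagTerm_lin μ ρ hp hmap]
  congr 2
  apply Units.ext
  rw [LinearEquiv.coe_det]
  have e1 : ((res (ρ g) p hmap : p ≃ₗ[F] p) : p →ₗ[F] p) = (c : F) • LinearMap.id := by
    ext x
    exact hact x x.2
  rw [e1, LinearMap.det_smul, LinearMap.det_id, hp]
  simp

end Flag

/-- translation -/
theorem sum_eq_zero_of_mul {U : Type*} [Group U] [Fintype U] (φ : U → ℂ) (t : U) (c : ℂ) (hc : c ≠ 1)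
    (h : ∀ u, φ (t * u) = c * φ u) : ∑ u, φ u = 0 := by
  have h1 : ∑ u, φ u = c * ∑ u, φ u := by
    rw [Finset.mul_sum, ← Fintype.sum_equiv (Equiv.mulLeft t) (fun u => φ (t * u)) φ (fun u => rfl)]
    exact Finset.sum_congr rfl fun u _ => h u
  have h2 : (1 - c) * ∑ u, φ u = 0 := by rw [sub_mul, one_mul, ← h1, sub_self]
  rcases mul_eq_zero.1 h2 with h3 | h3
  · exact absurd (sub_eq_zero.1 h3).symm hc
  · exact h3

/-- the natural action -/
noncomputable def rhoGL (F : Type u) [Field F] (n : ℕ) : GL (Fin n) F →* ((Fin n → F) ≃ₗ[F] (Fin n → F)) :=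
  (glE (Pi.basisFun F (Fin n))).symm.toMonoidHom

theorem rhoGL_surj (n : ℕ) (e : (Fin n → F) ≃ₗ[F] (Fin n → F)) : ∃ g, rhoGL F n g = e :=
  (glE (Pi.basisFun F (Fin n))).symm.surjective e

theorem rhoGL_apply (n : ℕ) (A : GL (Fin n) F) (v : Fin n → F) :
    rhoGL F n A v = (A : Matrix (Fin n) (Fin n) F).mulVec v := by
  obtain ⟨e, rfl⟩ := (glE (Pi.basisFun F (Fin n))).surjective A
  have h1 : rhoGL F n (glE (Pi.basisFun F (Fin n)) e) = e := (glE (Pi.basisFun F (Fin n))).symm_apply_apply e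
  rw [h1, coe_glE]
  have h2 := LinearMap.toMatrix_mulVec_repr (Pi.basisFun F (Fin n)) (Pi.basisFun F (Fin n)) (e : (Fin n → F) →ₗ[F] _) v
  ext i
  have h3 := congrFun h2 i
  simp only [Pi.basisFun_repr, LinearEquiv.coe_coe] at h3
  rw [← h3]
  rfl

theorem rhoGL_scalar (n : ℕ) (c : Fˣ) (v : Fin n → F) :
    rhoGL F n (GeneralLinearGroup.scalar (Fin n) c) v = (c : F) • v := by
  rw [rhoGL_apply, GeneralLinearGroup.coe_scalar, Matrix.scalar_apply]
  ext i
  rw [Matrix.mulVec_diagonal]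
  rfl

/-! ### the character -/

/-- the lines of `F²` -/
def lines (F : Type u) [Field F] : Set (Submodule F (Fin 2 → F)) := {p | finrank F p = 1}

noncomputable instance fintypeLines [Finite F] : Fintype (lines F) := Fintype.ofFinite _

/-- `A ↦ μ(det A) ∑ μ(A | p)` -/
noncomputable def sigma [Finite F] (A : GL (Fin 2) F) : ℂ :=
  (μ (GeneralLinearGroup.det A) : ℂ) * flagChar (rhoGL F 2) (lines F) (lin μ 1) A

theorem exists_line {V : Type v} [AddCommGroup V] [Module F V] {y : V} (hy : y ≠ 0) :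
    finrank F (Submodule.span F {y}) = 1 := finrank_span_singleton hy

theorem flag_isIrr [Fintype F] (hμ : μ ≠ 1) :
    IsIrrCharacter (GL (Fin 2) F) (flagChar (rhoGL F 2) (lines F) (lin μ 1)) := by
  classical
  obtain ⟨c, hc⟩ : ∃ c, μ c ≠ 1 := by
    by_contra h
    push Not at h
    exact hμ (MonoidHom.ext h)
  have : Finite (GL (Fin 2) F) := inferInstance
  let _ : Fintype (GL (Fin 2) F) := Fintype.ofFinite _
  have hy : (Pi.single 0 1 : Fin 2 → F) ≠ 0 := by
    intro h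
    have := congrFun h 0
    simp at this
  obtain ⟨W₀, hW₀⟩ : ∃ W₀ : Submodule F (Fin 2 → F), finrank F W₀ = 1 := ⟨_, exists_line hy⟩
  have hbot : ∀ W : Submodule F (Fin 2 → F), finrank F W = 1 → ∀ W' : Submodule F (Fin 2 → F),
      finrank F W' = 1 → W' ≠ W → W ⊓ W' = ⊥ := by
    intro W hW W' hW' hne
    by_contra h
    have h1 : finrank F ↥(W ⊓ W') ≠ 0 := by
      rw [Ne, Submodule.finrank_eq_zero]
      exact h
    have h2 : W ⊓ W' = W := Submodule.eq_of_le_of_finrank_le inf_le_left (by omega)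
    have h3 : W ⊓ W' = W' := Submodule.eq_of_le_of_finrank_le inf_le_right (by omega)
    exact hne (h3.symm.trans h2)
  refine isIrr_flagChar' (rhoGL F 2) (lines F) (fun g W hW => ?_) (W₀ := W₀) hW₀ (fun W hW => ?_) hW₀
    (lin_isIrr μ 1) (fun a => ?_) (fun W' hW' hne => ⟨⊤, fun u _ => ?_, fun {_} => ?_⟩)
  · change finrank F _ = 1
    rw [LinearEquiv.finrank_map_eq]
    exact hW
  · obtain ⟨e, he⟩ := exists_map W₀ W (hW₀.trans (show finrank F W = 1 from hW).symm)
    obtain ⟨g, rfl⟩ := rhoGL_surj 2 e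
    exact ⟨g, he⟩
  · obtain ⟨e, he, -⟩ := exists_glue W₀ ⊥ a (fun w hw => by
      rw [Submodule.mem_bot] at hw
      have : w = 0 := Subtype.ext hw
      rw [this, map_zero])
    obtain ⟨g, rfl⟩ := rhoGL_surj 2 e
    exact ⟨g, he⟩
  · obtain ⟨e, he1, he2⟩ := exists_glue W₀ W' u (fun w hw => by
      have h1 : (w : Fin 2 → F) ∈ W₀ ⊓ W' := ⟨w.2, hw⟩
      rw [hbot W₀ hW₀ W' hW' hne, Submodule.mem_bot] at h1
      have : w = 0 := Subtype.ext h1
      rw [this, map_zero])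
    obtain ⟨g, rfl⟩ := rhoGL_surj 2 e
    exact ⟨g, he1, he2⟩
  · obtain ⟨y, hy0⟩ := Module.finrank_pos_iff_exists_ne_zero.1 (show 0 < finrank F W₀ by omega)
    have hW₀ne : (⊥ : Submodule F W₀) ≠ ⊤ := by
      intro h
      apply hy0
      have : y ∈ (⊥ : Submodule F W₀) := by rw [h]; trivial
      exact (Submodule.mem_bot F).1 this
    obtain ⟨d, hd, -⟩ := exists_det (⊥ : Submodule F W₀) hW₀ne c
    refine sum_eq_zero_of_mul _ (⟨d, trivial⟩ : (⊤ : Subgroup (W₀ ≃ₗ[F] W₀))) (μ c) (fun h => hc (Units.ext h)) ?_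
    intro u
    rw [cl_lin μ hW₀, cl_lin μ hW₀, Subgroup.coe_mul, map_mul, hd, map_mul, Units.val_mul]

theorem sigma_isIrr [Fintype F] (hμ : μ ≠ 1) : IsIrrCharacter (GL (Fin 2) F) (sigma μ) := by
  have h := CharactersDeep.ExtUnique.isIrr_mul_hom (flag_isIrr μ hμ)
    (μ.comp (GeneralLinearGroup.det (n := Fin 2) (R := F)))
  have e : (fun g : GL (Fin 2) F => flagChar (rhoGL F 2) (lines F) (lin μ 1) g *
      ((μ.comp (GeneralLinearGroup.det)) g : ℂ)) = sigma μ := by
    funext g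
    rw [mul_comm]
    rfl
  rwa [e] at h

theorem sigma_scalar [Finite F] (h3 : μ ^ 3 = 1) (c : Fˣ) (A : GL (Fin 2) F) :
    sigma μ (GeneralLinearGroup.scalar (Fin 2) c * A) = sigma μ A := by
  classical
  have h1 : flagChar (rhoGL F 2) (lines F) (lin μ 1) (GeneralLinearGroup.scalar (Fin 2) c * A) =
      (μ c : ℂ) * flagChar (rhoGL F 2) (lines F) (lin μ 1) A := by
    unfold flagChar
    rw [Finset.mul_sum]
    refine Finset.sum_congr rfl fun p _ => ?_
    obtain ⟨y, hy0⟩ := Module.finrank_pos_iff_exists_ne_zero.1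
      (show 0 < finrank F p.1 by rw [show finrank F p.1 = 1 from p.2]; norm_num)
    obtain ⟨h, h'⟩ := flagTerm_span μ (rhoGL F 2) p.2 y.2 (fun h => hy0 (Subtype.ext h)) (rhoGL_scalar 2 c y.1)
    rw [flagTerm_lin_mul μ (rhoGL F 2) p.2 h, h']
  have h2 : GeneralLinearGroup.det (GeneralLinearGroup.scalar (Fin 2) c) = c ^ 2 := by
    apply Units.ext
    rw [GeneralLinearGroup.val_det_apply, GeneralLinearGroup.coe_scalar, Matrix.scalar_apply, Matrix.det_diagonal]
    simp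
  rw [sigma, sigma, h1, map_mul, h2, map_mul, map_pow, Units.val_mul, Units.val_pow_eq_pow_val]
  have h4 : (μ c : ℂ) ^ 3 = 1 := by
    have := congrArg Units.val (DFunLike.congr_fun h3 c)
    rwa [MonoidHom.pow_apply, Units.val_pow_eq_pow_val] at this
  calc (μ c : ℂ) ^ 2 * (μ (GeneralLinearGroup.det A)) * ((μ c : ℂ) * flagChar (rhoGL F 2) (lines F) (lin μ 1) A)
      = (μ c : ℂ) ^ 3 * ((μ (GeneralLinearGroup.det A)) * flagChar (rhoGL F 2) (lines F) (lin μ 1) A) := by ring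
    _ = _ := by rw [h4, one_mul]

theorem sigma_mem [Finite F] (h3 : μ ^ 3 = 1) (A : GL (Fin 2) F) :
    sigma μ A ∈ Subring.closure {z : ℂ | z ^ 3 = 1} := by
  have h4 : ∀ c, (μ c : ℂ) ∈ Subring.closure {z : ℂ | z ^ 3 = 1} := by
    intro c
    apply Subring.subset_closure
    have := congrArg Units.val (DFunLike.congr_fun h3 c)
    rwa [MonoidHom.pow_apply, Units.val_pow_eq_pow_val] at this
  exact Subring.mul_mem _ (h4 _) (flagChar_mem _ _ _ (fun A => h4 _) _)

theorem sigma_rat [Fintype F] (h3 : μ ^ 3 = 1) (hμ : μ ≠ 1) (A : GL (Fin 2) F) : ∃ q : ℚ, sigma μ A = q := by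
  refine GowReal.rat_of_real (Core.isIrr_isCharacter (sigma_isIrr μ hμ)) (sigma_scalar μ h3) (fun τ A => ?_) A
  rcases GowReal.cube_cases τ with h | h
  · left
    exact GowReal.eqOn_closure (τ : ℂ →+* ℂ) (RingHom.id ℂ) h (sigma_mem μ h3 A)
  · right
    exact GowReal.eqOn_closure (τ : ℂ →+* ℂ) (starRingEnd ℂ) h (sigma_mem μ h3 A)

theorem sigma_one [Finite F] : sigma μ (1 : GL (Fin 2) F) = Nat.card (lines F) := by
  rw [sigma, map_one, map_one, Units.val_one, one_mul, flagChar_one (rhoGL F 2) (lines F)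
    (Core.isIrr_isClassFunction (lin_isIrr μ 1)) (fun W hW => hW), lin, map_one, map_one, Units.val_one, mul_one]

/-- **No invariants** -/
theorem sigma_sum [Finite F] (hμ : μ ≠ 1) {W : Type v} [AddCommGroup W] [Module F W] [Finite W]
    (hW : finrank F W = 2)
    (U : Subgroup (W ≃ₗ[F] W)) [Fintype U]
    (h : ∀ y : W, y ≠ 0 → ∃ t ∈ U, ∃ c : Fˣ, t y = (c : F) • y ∧ μ (LinearEquiv.det t) * μ c ≠ 1) :
    ∑ u : U, cl (sigma μ) (u : W ≃ₗ[F] W) = 0 := by
  classical
  let _ : Fintype F := Fintype.ofFinite F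
  have : FiniteDimensional F W := Module.Finite.of_finite
  have b : Basis (Fin 2) F W := finBasisOfFinrankEq F W hW
  have e1 : ∀ u : U, cl (sigma μ) (u : W ≃ₗ[F] W) =
      ∑ p : lines F, (μ (LinearEquiv.det (u : W ≃ₗ[F] W)) : ℂ) * flagTerm (rhoGL F 2) (lin μ 1) (glE b u) p.1 := by
    intro u
    rw [cl_eq (Core.isIrr_isClassFunction (sigma_isIrr μ hμ)) b, sigma, det_glE, flagChar, Finset.mul_sum]
  rw [Finset.sum_congr rfl fun u _ => e1 u, Finset.sum_comm]
  refine Finset.sum_eq_zero fun p _ => ?_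
  obtain ⟨x, hx0⟩ := Module.finrank_pos_iff_exists_ne_zero.1
    (show 0 < finrank F p.1 by rw [show finrank F p.1 = 1 from p.2]; norm_num)
  obtain ⟨t, ht, c, hc, hμc⟩ := h (b.equivFun.symm x.1) (fun h0 => hx0 (Subtype.ext (by
    rwa [LinearEquiv.map_eq_zero_iff] at h0)))
  have h2 : rhoGL F 2 (glE b t) x.1 = (c : F) • x.1 := by
    rw [rhoGL_apply, coe_glE]
    have h3 := LinearMap.toMatrix_mulVec_repr b b (t : W →ₗ[F] W) (b.equivFun.symm x.1)
    have h4 : (b.repr (b.equivFun.symm x.1) : Fin 2 → F) = x.1 := b.equivFun.apply_symm_apply x.1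
    rw [h4] at h3
    rw [h3, LinearEquiv.coe_coe, hc, map_smul]
    funext i
    rw [Finsupp.smul_apply, h4]
    rfl
  obtain ⟨h5, h6⟩ := flagTerm_span μ (rhoGL F 2) p.2 x.2 (fun h => hx0 (Subtype.ext h)) h2
  refine sum_eq_zero_of_mul _ (⟨t, ht⟩ : U) ((μ (LinearEquiv.det t) * μ c : ℂˣ) : ℂ) (fun h => hμc (Units.ext h)) ?_
  intro u
  rw [Subgroup.coe_mul, map_mul, map_mul, map_mul, flagTerm_lin_mul μ (rhoGL F 2) p.2 h5, h6, Units.val_mul,
    Units.val_mul]
  ring

end Cfsg.Agent.H61.GowSigma
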