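import Cfsg.Agent.HN.A12Group
import Cfsg.Agent.H61.SpAltFb

/-!
# `11 : 5` in `HN` (helper61)
-/

set_option autoImplicit false

namespace Cfsg.Agent.H61.SpAlt

open Cfsg

/-- an 11-cycle in degree 12 -/
def p11 : Equiv.Perm (Fin 12) where
  toFun i := ⟨bif Nat.beq i.1 11 then 11 else (i.1 + 1) % 11, by
    cases h : Nat.beq i.1 11
    · exact lt_of_lt_of_le (Nat.mod_lt _ (by norm_num)) (by norm_num)
    · norm_num⟩
  invFun i := ⟨bif Nat.beq i.1 11 then 11 else (i.1 + 10) % 11, by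
    cases h : Nat.beq i.1 11
    · exact lt_of_lt_of_le (Nat.mod_lt _ (by norm_num)) (by norm_num)
    · norm_num⟩
  left_inv := by decide
  right_inv := by decide

/-- multiplication by 3 modulo 11 -/
def p5 : Equiv.Perm (Fin 12) where
  toFun i := ⟨bif Nat.beq i.1 11 then 11 else (i.1 * 3) % 11, by
    cases h : Nat.beq i.1 11
    · exact lt_of_lt_of_le (Nat.mod_lt _ (by norm_num)) (by norm_num)
    · norm_num⟩
  invFun i := ⟨bif Nat.beq i.1 11 then 11 else (i.1 * 4) % 11, by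
    cases h : Nat.beq i.1 11
    · exact lt_of_lt_of_le (Nat.mod_lt _ (by norm_num)) (by norm_num)
    · norm_num⟩
  left_inv := by decide
  right_inv := by decide

theorem p11_pow : p11 ^ 11 = 1 := by decide +kernel
theorem p5_pow : p5 ^ 5 = 1 := by decide +kernel
theorem p11_ne : p11 ≠ 1 := by decide +kernel
theorem p5_conj : p5 * p11 * p5⁻¹ = p11 ^ 3 := by decide +kernel

theorem mem_alt_of_odd {σ : Equiv.Perm (Fin 12)} {m : ℕ} (hm : Odd m) (h : σ ^ m = 1) :
    σ ∈ alternatingGroup (Fin 12) := by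
  rw [Equiv.Perm.mem_alternatingGroup]
  have h1 : Equiv.Perm.sign σ ^ m = 1 := by rw [← map_pow, h, map_one]
  rcases Int.units_eq_one_or (Equiv.Perm.sign σ) with h2 | h2
  · exact h2
  · rw [h2, hm.neg_one_pow] at h1
    exact absurd h1 (by decide)

theorem fb_A12 : Fb 11 5 (alternatingGroup (Fin 12)) := by
  refine Fb.mk' (a := ⟨p11, mem_alt_of_odd (m := 11) (by decide) p11_pow⟩)
    (x := ⟨p5, mem_alt_of_odd (m := 5) (by decide) p5_pow⟩) (k := 3) (by norm_num) (by norm_num) (Subtype.ext p11_pow)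
    (fun h => p11_ne (congrArg Subtype.val h)) (Subtype.ext p5_pow) (Subtype.ext p5_conj) (by decide)

theorem fb_HN [IsSimpleGroup Cfsg.Spor.HN] : Fb 11 5 Cfsg.Spor.HN := by
  obtain ⟨K, ⟨e⟩⟩ := Cfsg.Agent.HN.A12Group.exists_alternating
  exact fb_A12.map (K.subtype.comp e.symm.toMonoidHom) (K.subtype_injective.comp e.symm.injective)

end Cfsg.Agent.H61.SpAlt
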