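import Cfsg.Agent.H61.SpAltCore
import Cfsg.Agent.H61.SpAltOrd
import Cfsg.Agent.H61.SpAltHN

/-!
# The cases `n ≠ 10, 16` (helper61)
-/

set_option autoImplicit false
set_option maxRecDepth 100000

namespace Cfsg.Agent.H61.SpAlt

open Cfsg Subgroup Cfsg.Agent.H998.SpAlt Cfsg.Agent.OrdDiv

universe u v

theorem dvd_of_not_coprime {p N : ℕ} (hp : p.Prime) (h : ¬ p.Coprime N) : p ∣ N := by
  by_contra h1
  exact h ((Nat.Prime.coprime_iff_not_dvd hp).2 h1)

theorem dvd_or_of_not_coprime {p q N : ℕ} (hp : p.Prime) (hq : q.Prime) (h : ¬ (p * q).Coprime N) : p ∣ N ∨ q ∣ N := by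
  by_contra h1
  push Not at h1
  exact h (Nat.Coprime.mul_left ((Nat.Prime.coprime_iff_not_dvd hp).2 h1.1)
    ((Nat.Prime.coprime_iff_not_dvd hq).2 h1.2))

theorem not_has_of_card {X : Type v} [Group X] {m : ℕ} (h : ¬ m ∣ Nat.card X) : ¬ Has X m := by
  rintro ⟨x, hx⟩
  exact h (hx ▸ orderOf_dvd_natCard x)

section

variable {n : ℕ} {G : Type u} [Group G] [Finite G] {X : Type v} [Group X]

omit [Finite G] in
theorem nh (h : ∀ m, Has G m ↔ Has (alternatingGroup (Fin n)) m) {m : ℕ}
    (hb : ((gen (n + n) n n).all fun x => !(Nat.beq x.1 m) || x.2) = true) : ¬ Has G m :=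
  fun hh => alt_not hb ((h m).1 hh)

omit [Finite G] in
theorem hs_prime (h : ∀ m, Has G m ↔ Has (alternatingGroup (Fin n)) m) {p : ℕ} (hp : p.Prime) (hp2 : p ≠ 2)
    (hpn : p ≤ n) : Has G p := (h p).2 (ord_prime hp hp2 hpn)

/-- the pattern "`t ∤ |X|`, Frobenius group `r : e`, `s = t`" -/
theorem one_prime [IsSimpleGroup X] (h : ∀ m, Has G m ↔ Has (alternatingGroup (Fin n)) m) (hN : Nil G X) {t r e : ℕ}
    (ht : t.Prime) (ht2 : t ≠ 2) (htn : t ≤ n) (htX : ¬ t ∣ Nat.card X) (hr : r.Prime) (hrt : r ≠ t) (he : 1 ≤ e)
    (hF : Fb r e X) {a b : ℕ}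
    (ha : ((gen (n + n) n n).all fun x => !(Nat.beq x.1 a) || x.2) = true) (ha' : a = e * t)
    (hb : ((gen (n + n) n n).all fun x => !(Nat.beq x.1 b) || x.2) = true) (hb' : b = r * t) : False := by
  obtain ⟨G0, f, hf, hn, hcop⟩ := hN
  have h1 := dvd_of_not_coprime ht (hcop t (ht.odd_of_ne_two ht2) (hs_prime h ht ht2 htn) (not_has_of_card htX))
  exact kill_frob f hf hn ht h1 hr hrt he hF (nh h ha) ha' ((Nat.coprime_primes hr ht).2 hrt) hF.has (nh h hb) hb'

/-! ### `n = 11` -/

theorem case11_m11 [IsSimpleGroup X] (h : ∀ m, Has G m ↔ Has (alternatingGroup (Fin 11)) m) (hN : Nil G X)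
    (h7 : ¬ 7 ∣ Nat.card X) (hF : Fb 11 5 X) : False :=
  one_prime h hN (t := 7) (by norm_num) (by norm_num) (by norm_num) h7 (by norm_num) (by norm_num) (by norm_num) hF
    (a := 35) (b := 77) (by decide +kernel) (by norm_num) (by decide +kernel) (by norm_num)

theorem case11_m22 [IsSimpleGroup X] (h : ∀ m, Has G m ↔ Has (alternatingGroup (Fin 11)) m) (hN : Nil G X)
    (h21 : ¬ Has X (7 * 3)) (hF : Fb 11 5 X) (hK : KA X) : False := by
  obtain ⟨G0, f, hf, hn, hcop⟩ := hN
  have hG21 : Has G (7 * 3) := (h _).2 (ord {7, 3} (7 * 3) (by decide) (by decide) (by decide) (by decide))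
  rcases dvd_or_of_not_coprime (by norm_num) Nat.prime_three (hcop (7 * 3) (by decide) hG21 h21) with h1 | h1
  · exact kill_frob f hf hn (by norm_num : Nat.Prime 7) h1 (by norm_num) (by norm_num) (by norm_num) hF
      (nh h (m := 35) (by decide +kernel)) (by norm_num) (m := 11) (by norm_num) hF.has
      (nh h (m := 77) (by decide +kernel)) (by norm_num)
  · exact kill_klein f hf hn h1 hK (nh h (m := 18) (by decide +kernel)) (m := 11) (by norm_num) hF.has
      (nh h (m := 33) (by decide +kernel)) (by norm_num)

/-! ### `n = 12` -/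

theorem case12 [IsSimpleGroup X] (h : ∀ m, Has G m ↔ Has (alternatingGroup (Fin 12)) m) (hN : Nil G X)
    (h35 : ¬ Has X (7 * 5)) (hF : Fb 11 5 X) (hF' : Fb 5 4 X) : False := by
  obtain ⟨G0, f, hf, hn, hcop⟩ := hN
  have hG35 : Has G (7 * 5) := (h _).2 (ord {7, 5} (7 * 5) (by decide) (by decide) (by decide) (by decide))
  rcases dvd_or_of_not_coprime (by norm_num) Nat.prime_five (hcop (7 * 5) (by decide) hG35 h35) with h1 | h1
  · exact kill_frob f hf hn (by norm_num : Nat.Prime 7) h1 Nat.prime_five (by norm_num) (by norm_num) hF'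
      (nh h (m := 28) (by decide +kernel)) (by norm_num) (m := 11) (by norm_num) hF.has
      (nh h (m := 77) (by decide +kernel)) (by norm_num)
  · exact kill_frob f hf hn (by norm_num : Nat.Prime 5) h1 (by norm_num) (by norm_num) (by norm_num) hF
      (nh h (m := 25) (by decide +kernel)) (by norm_num) (m := 11) (by norm_num) hF.has
      (nh h (m := 55) (by decide +kernel)) (by norm_num)

/-! ### `Suz`, `n = 13, 14, 15` -/

theorem case_suz [IsSimpleGroup X] (h : ∀ m, Has G m ↔ Has (alternatingGroup (Fin n)) m) (hn12 : 12 ≤ n)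
    (hN : Nil G X) (h35 : ¬ Has X (7 * 5)) (hF : Fb 11 10 X)
    (h25 : ((gen (n + n) n n).all fun x => !(Nat.beq x.1 25) || x.2) = true)
    (h55 : ((gen (n + n) n n).all fun x => !(Nat.beq x.1 55) || x.2) = true)
    (h70 : ((gen (n + n) n n).all fun x => !(Nat.beq x.1 70) || x.2) = true)
    (h77 : ((gen (n + n) n n).all fun x => !(Nat.beq x.1 77) || x.2) = true) : False := by
  obtain ⟨G0, f, hf, hn, hcop⟩ := hN
  have hG35 : Has G (7 * 5) := (h _).2 (ord {7, 5} (7 * 5) (by simpa using hn12) (by decide) (by decide) (by decide))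
  rcases dvd_or_of_not_coprime (by norm_num) Nat.prime_five (hcop (7 * 5) (by decide) hG35 h35) with h1 | h1
  · exact kill_frob f hf hn (by norm_num : Nat.Prime 7) h1 (by norm_num) (by norm_num) (by norm_num) hF
      (nh h (m := 70) h70) (by norm_num) (m := 11) (by norm_num) hF.has (nh h (m := 77) h77) (by norm_num)
  · exact kill_frob f hf hn (by norm_num : Nat.Prime 5) h1 (r := 11) (e := 5) (by norm_num) (by norm_num) (by norm_num)
      (Fb.pow (d := 2) (by norm_num) (by norm_num) hF)
      (nh h (m := 25) h25) (by norm_num) (m := 11) (by norm_num) hF.has (nh h (m := 55) h55) (by norm_num)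

end

/-! ### Frobenius groups from isomorphisms -/

section Iso

variable {X : Type v} [Group X]

theorem fb_isoJ3 (h : Spor.IsoJ3 X) : Fb 17 8 X ∧ Fb 19 9 X := by
  obtain ⟨F, iF, iF', ω, hF, hω, ⟨e⟩⟩ := h
  have H := Cfsg.Agent.J3.Core.good_of_card hF hω
  exact ⟨(fb_J3_seventeen hF H).congr e.symm, (fb_J3_nineteen hF H).congr e.symm⟩

theorem M22_no' [Finite X] (h : Spor.IsoM22 X) {q : ℕ} (hq : q = 3 ∨ q = 5) : ¬ Has X (7 * q) := M22_no h hq

end Iso

/-- **The cases `n ≠ 10, 16`.** -/
theorem cases_main {n : ℕ} (h5 : 5 ≤ n) (h21 : n < 22) {G : Type u} [Group G] [Finite G] {X : Type v} [Group X]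
    [Finite X] (hs : IsSimpleGroup X) (h : ∀ m, Has G m ↔ Has (alternatingGroup (Fin n)) m) {g : Grp}
    (hg : g ∈ grps n) (hR : Real g X) (hc : Nat.card X = ordN g) (hO : OI X) (hst : St G X)
    (h10 : n = 10 → Spor.IsoJ2 X → False) (h16 : n = 16 → Spor.IsoSuz X → False) : False := by
  have hX : ∀ {m : ℕ}, Has X m → Has G m := fun hm => has_of_X hst hm
  have suz35 : Spor.IsoSuz X → ¬ Has X (7 * 5) := fun hi => Suz_no hi
  have fbsuz : Spor.IsoSuz X → Fb 11 10 X := fun ⟨e⟩ => fb_Suz.congr e.symm
  interval_cases n
  · simp [grps] at hg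
  · simp [grps] at hg
  · -- 7
    simp only [grps, List.mem_singleton] at hg
    subst hg
    exact nh h (m := 8) (by decide +kernel) (hX (J2_eight hR))
  · -- 8
    simp only [grps, List.mem_singleton] at hg
    subst hg
    exact nh h (m := 8) (by decide +kernel) (hX (J2_eight hR))
  · -- 9
    simp only [grps, List.mem_singleton] at hg
    subst hg
    exact nh h (m := 8) (by decide +kernel) (hX (J2_eight hR))
  · -- 10
    simp only [grps, List.mem_singleton] at hg
    subst hg
    exact h10 rfl hR
  · -- 11
    have hN : Nil G X := exists_nil (n := 11) (p := 11) (by norm_num) (by norm_num) le_rfl (by norm_num)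
      (by decide +kernel) h hO hst
    simp only [grps, List.mem_cons, List.not_mem_nil, or_false] at hg
    rcases hg with rfl | rfl | rfl | rfl | rfl
    · obtain ⟨e⟩ : Spor.IsoM11 X := hR
      exact case11_m11 h hN (by rw [hc]; decide +kernel) (fb_M11_eleven.congr e.symm)
    · obtain ⟨e⟩ : Spor.IsoM12 X := hR
      exact case11_m11 h hN (by rw [hc]; decide +kernel) (fb_M12_eleven.congr e.symm)
    · have hno := M22_no' (X := X) hR (Or.inl rfl)
      obtain ⟨e⟩ : Spor.IsoM22 X := hR
      exact case11_m22 h hN hno (fb_M22_eleven.congr e.symm) (ka_M22.congr e.symm)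
    · have hno := HS_no (X := X) hR (Or.inl rfl)
      obtain ⟨e⟩ : Spor.IsoHS X := hR
      exact case11_m22 h hN hno (fb_HS_eleven.congr e.symm) (ka_HS.congr e.symm)
    · exact nh h (m := 30) (by decide +kernel) (hX (McL_thirty hR))
  · -- 12
    have hN : Nil G X := exists_nil (n := 12) (p := 11) (by norm_num) (by norm_num) (by norm_num) (by norm_num)
      (by decide +kernel) h hO hst
    simp only [grps, List.mem_cons, List.not_mem_nil, or_false] at hg
    rcases hg with rfl | rfl | rfl | rfl | rfl
    · obtain ⟨e⟩ : Spor.IsoM11 X := hR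
      exact case12 h hN (not_has_of_card (by rw [hc]; decide +kernel)) (fb_M11_eleven.congr e.symm)
        (fb_M11_five.congr e.symm)
    · obtain ⟨e⟩ : Spor.IsoM12 X := hR
      exact case12 h hN (not_has_of_card (by rw [hc]; decide +kernel)) (fb_M12_eleven.congr e.symm)
        (fb_M12_five.congr e.symm)
    · have hno := M22_no' (X := X) hR (Or.inr rfl)
      obtain ⟨e⟩ : Spor.IsoM22 X := hR
      exact case12 h hN hno (fb_M22_eleven.congr e.symm) (fb_M22_five.congr e.symm)
    · have hno := HS_no (X := X) hR (Or.inr rfl)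
      obtain ⟨e⟩ : Spor.IsoHS X := hR
      exact case12 h hN hno (fb_HS_eleven.congr e.symm) (fb_HS_five.congr e.symm)
    · have hno := McL_no (X := X) hR
      obtain ⟨e⟩ : Spor.IsoMcL X := hR
      exact case12 h hN hno (fb_McL_eleven.congr e.symm) (fb_McL_five.congr e.symm)
  · -- 13
    simp only [grps, List.mem_cons, List.not_mem_nil, or_false] at hg
    rcases hg with rfl | rfl
    · have hN : Nil G X := exists_nil (n := 13) (p := 13) (by norm_num) (by norm_num) (by norm_num) (by norm_num)
        (by decide +kernel) h hO hst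
      exact case_suz h (by norm_num) hN (suz35 hR) (fbsuz hR) (by decide +kernel) (by decide +kernel) (by decide +kernel)
        (by decide +kernel)
    · exact nh h (m := 16) (by decide +kernel) (hX (Fi22_sixteen hR))
  · -- 14
    simp only [grps, List.mem_cons, List.not_mem_nil, or_false] at hg
    rcases hg with rfl | rfl
    · have hN : Nil G X := exists_nil (n := 14) (p := 13) (by norm_num) (by norm_num) (by norm_num) (by norm_num)
        (by decide +kernel) h hO hst
      exact case_suz h (by norm_num) hN (suz35 hR) (fbsuz hR) (by decide +kernel) (by decide +kernel) (by decide +kernel)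
        (by decide +kernel)
    · exact nh h (m := 16) (by decide +kernel) (hX (Fi22_sixteen hR))
  · -- 15
    simp only [grps, List.mem_cons, List.not_mem_nil, or_false] at hg
    rcases hg with rfl | rfl
    · have hN : Nil G X := exists_nil (n := 15) (p := 13) (by norm_num) (by norm_num) (by norm_num) (by norm_num)
        (by decide +kernel) h hO hst
      exact case_suz h (by norm_num) hN (suz35 hR) (fbsuz hR) (by decide +kernel) (by decide +kernel) (by decide +kernel)
        (by decide +kernel)
    · exact nh h (m := 16) (by decide +kernel) (hX (Fi22_sixteen hR))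
  · -- 16
    simp only [grps, List.mem_cons, List.not_mem_nil, or_false] at hg
    rcases hg with rfl | rfl
    · exact h16 rfl hR
    · exact nh h (m := 16) (by decide +kernel) (hX (Fi22_sixteen hR))
  · -- 17
    have hN : Nil G X := exists_nil (n := 17) (p := 17) (by norm_num) (by norm_num) (by norm_num) (by norm_num)
      (by decide +kernel) h hO hst
    simp only [grps, List.mem_singleton] at hg
    subst hg
    obtain ⟨e⟩ : Spor.IsoHe X := hR
    exact one_prime h hN (t := 11) (by norm_num) (by norm_num) (by norm_num) (by rw [hc]; decide +kernel) (by norm_num)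
      (by norm_num) (by norm_num) (fb_He.congr e.symm) (a := 88) (b := 187) (by decide +kernel) (by norm_num)
      (by decide +kernel) (by norm_num)
  · -- 18
    have hN : Nil G X := exists_nil (n := 18) (p := 17) (by norm_num) (by norm_num) (by norm_num) (by norm_num)
      (by decide +kernel) h hO hst
    simp only [grps, List.mem_singleton] at hg
    subst hg
    obtain ⟨e⟩ : Spor.IsoHe X := hR
    exact one_prime h hN (t := 11) (by norm_num) (by norm_num) (by norm_num) (by rw [hc]; decide +kernel) (by norm_num)
      (by norm_num) (by norm_num) (fb_He.congr e.symm) (a := 88) (b := 187) (by decide +kernel) (by norm_num)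
      (by decide +kernel) (by norm_num)
  · -- 19
    have hN : Nil G X := exists_nil (n := 19) (p := 19) (by norm_num) (by norm_num) (by norm_num) (by norm_num)
      (by decide +kernel) h hO hst
    simp only [grps, List.mem_singleton] at hg
    subst hg
    exact one_prime h hN (t := 11) (by norm_num) (by norm_num) (by norm_num) (by rw [hc]; decide +kernel) (by norm_num)
      (by norm_num) (by norm_num) (fb_isoJ3 hR).1 (a := 88) (b := 187) (by decide +kernel) (by norm_num)
      (by decide +kernel) (by norm_num)
  · -- 20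
    have hN : Nil G X := exists_nil (n := 20) (p := 19) (by norm_num) (by norm_num) (by norm_num) (by norm_num)
      (by decide +kernel) h hO hst
    simp only [grps, List.mem_singleton] at hg
    subst hg
    exact one_prime h hN (t := 11) (by norm_num) (by norm_num) (by norm_num) (by rw [hc]; decide +kernel) (by norm_num)
      (by norm_num) (by norm_num) (fb_isoJ3 hR).1 (a := 88) (b := 187) (by decide +kernel) (by norm_num)
      (by decide +kernel) (by norm_num)
  · -- 21
    have hN : Nil G X := exists_nil (n := 21) (p := 19) (by norm_num) (by norm_num) (by norm_num) (by norm_num)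
      (by decide +kernel) h hO hst
    simp only [grps, List.mem_cons, List.not_mem_nil, or_false] at hg
    rcases hg with rfl | rfl | rfl
    · obtain ⟨e⟩ : Spor.IsoJ1 X := hR
      exact one_prime h hN (t := 17) (by norm_num) (by norm_num) (by norm_num) (by rw [hc]; decide +kernel)
        (by norm_num) (by norm_num) (by norm_num) (fb_J1.congr e.symm) (a := 102) (b := 323) (by decide +kernel)
        (by norm_num) (by decide +kernel) (by norm_num)
    · exact one_prime h hN (t := 13) (by norm_num) (by norm_num) (by norm_num) (by rw [hc]; decide +kernel)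
        (by norm_num) (by norm_num) (by norm_num) (fb_isoJ3 hR).2 (a := 117) (b := 247) (by decide +kernel)
        (by norm_num) (by decide +kernel) (by norm_num)
    · obtain ⟨e⟩ : Spor.IsoHN X := hR
      have hHN : IsSimpleGroup Cfsg.Spor.HN := by
        have : Nontrivial Cfsg.Spor.HN := e.symm.toEquiv.nontrivial
        exact IsSimpleGroup.isSimpleGroup_of_surjective e.toMonoidHom e.surjective
      exact one_prime h hN (t := 17) (by norm_num) (by norm_num) (by norm_num) (by rw [hc]; decide +kernel)
        (by norm_num) (by norm_num) (by norm_num) (fb_HN.congr e.symm) (a := 85) (b := 187) (by decide +kernel)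
        (by norm_num) (by decide +kernel) (by norm_num)

end Cfsg.Agent.H61.SpAlt
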