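import Cfsg.Agent.H61.SpAltFb

/-!
# `2² × A₄` in `M22` and `HS` (helper61)

`KA X`: `X` contains `2² × A₄`: commuting involutions `b ≠ c` centralizing an involution `a` and an element `x` of
order 3, `⟨a, x⟩ ≅ A₄`.
-/

set_option autoImplicit false
set_option maxRecDepth 100000

namespace Cfsg.Agent.H61.SpAlt

open Cfsg Cfsg.Agent.H921.Spor

universe u v w

/-- `X` contains `2² × A₄` -/
def KA (X : Type v) [Group X] : Prop :=
  ∃ b c a x : X, orderOf b = 2 ∧ orderOf c = 2 ∧ b ≠ c ∧ b * c = c * b ∧ orderOf a = 2 ∧ orderOf x = 3 ∧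
    a * (x * a * x⁻¹) = (x * a * x⁻¹) * a ∧ x * (x * a * x⁻¹) * x⁻¹ = a * (x * a * x⁻¹) ∧
    b * a = a * b ∧ b * x = x * b ∧ c * a = a * c ∧ c * x = x * c

theorem KA.map {X : Type v} {Y : Type w} [Group X] [Group Y] (h : KA X) (f : X →* Y)
    (hf : Function.Injective f) : KA Y := by
  obtain ⟨b, c, a, x, hb, hc, hbc, h1, ha, hx, h2, h3, h4, h5, h6, h7⟩ := h
  refine ⟨f b, f c, f a, f x, by rw [orderOf_injective f hf, hb], by rw [orderOf_injective f hf, hc],
    fun h => hbc (hf h), by rw [← map_mul, h1, map_mul], by rw [orderOf_injective f hf, ha],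
    by rw [orderOf_injective f hf, hx], ?_, ?_, by rw [← map_mul, h4, map_mul], by rw [← map_mul, h5, map_mul],
    by rw [← map_mul, h6, map_mul], by rw [← map_mul, h7, map_mul]⟩
  · simp only [← map_mul, ← map_inv]
    rw [h2]
  · simp only [← map_mul, ← map_inv]
    rw [h3]

theorem KA.congr {X : Type v} {Y : Type w} [Group X] [Group Y] (h : KA X) (f : X ≃* Y) : KA Y :=
  h.map f.toMonoidHom f.injective

section Mathieu

open Cfsg.Agent.SporadicA.GolayBase Cfsg.Agent.SporadicA.GolayPerm Cfsg.Agent.SporadicStructure.M24El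
open Cfsg.Agent.H921.Spor.M24

/-- the checks, `d = x a x⁻¹` -/
def chkKA (b c a d x : ℕ) : Bool :=
  ok b && ok c && ok a && ok d && ok x && Nat.beq (pcomp b b) idP && Nat.beq (pcomp c c) idP &&
  Nat.beq (pcomp a a) idP && Nat.beq (ppow x 3) idP &&
  ((List.range 24).any fun i => !Nat.beq (papp b i) i) && ((List.range 24).any fun i => !Nat.beq (papp c i) i) &&
  ((List.range 24).any fun i => !Nat.beq (papp a i) i) && ((List.range 24).any fun i => !Nat.beq (papp x i) i) &&
  ((List.range 24).any fun i => !Nat.beq (papp (pcomp b c) i) i) &&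
  Nat.beq (pcomp b c) (pcomp c b) && Nat.beq (pcomp x a) (pcomp d x) && Nat.beq (pcomp a d) (pcomp d a) &&
  Nat.beq (pcomp x d) (pcomp (pcomp a d) x) &&
  Nat.beq (pcomp b a) (pcomp a b) && Nat.beq (pcomp b x) (pcomp x b) && Nat.beq (pcomp c a) (pcomp a c) &&
  Nat.beq (pcomp c x) (pcomp x c)

theorem el_ne {P : ℕ} (hP : ok P = true) (h : ((List.range 24).any fun i => !Nat.beq (papp P i) i) = true) :
    el P ≠ 1 := by
  rw [List.any_eq_true] at h
  obtain ⟨i, hi, h1⟩ := h
  refine el_ne_one hP (List.mem_range.1 hi) ?_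
  intro h2
  rw [h2] at h1
  simp at h1

theorem ka_of_chk {b c a d x : ℕ} (h : chkKA b c a d x = true) {K : Subgroup (Equiv.Perm GolayPt)}
    (hb : (el b : Equiv.Perm GolayPt) ∈ K) (hc : (el c : Equiv.Perm GolayPt) ∈ K)
    (ha : (el a : Equiv.Perm GolayPt) ∈ K) (hx : (el x : Equiv.Perm GolayPt) ∈ K) : KA K := by
  unfold chkKA at h
  simp only [Bool.and_eq_true] at h
  obtain ⟨⟨⟨⟨⟨⟨⟨⟨⟨⟨⟨⟨⟨⟨⟨⟨⟨⟨⟨⟨⟨ob, oc⟩, oa⟩, od⟩, ox⟩, b2⟩, c2⟩, a2⟩, x3⟩, nb⟩, nc⟩, na⟩, nx⟩, nbc⟩, e1⟩, e2⟩, e3⟩, e4⟩,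
    e5⟩, e6⟩, e7⟩, e8⟩ := h
  have lift : ∀ {u v : M24}, u = v → (u : Equiv.Perm GolayPt) = (v : Equiv.Perm GolayPt) := fun h => by rw [h]
  have b2' : el b * el b = 1 := by rw [← el_pcomp ob ob, Nat.eq_of_beq_eq_true b2, el_idP]
  have c2' : el c * el c = 1 := by rw [← el_pcomp oc oc, Nat.eq_of_beq_eq_true c2, el_idP]
  have a2' : el a * el a = 1 := by rw [← el_pcomp oa oa, Nat.eq_of_beq_eq_true a2, el_idP]
  have x3' : el x ^ 3 = 1 := by rw [← el_ppow ox, Nat.eq_of_beq_eq_true x3, el_idP]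
  have e1' : el b * el c = el c * el b := by
    rw [← el_pcomp ob oc, Nat.eq_of_beq_eq_true e1, el_pcomp oc ob]
  have e2' : el x * el a * (el x)⁻¹ = el d := by
    rw [mul_inv_eq_iff_eq_mul, ← el_pcomp ox oa, Nat.eq_of_beq_eq_true e2, el_pcomp od ox]
  have e3' : el a * el d = el d * el a := by
    rw [← el_pcomp oa od, Nat.eq_of_beq_eq_true e3, el_pcomp od oa]
  have e4' : el x * el d * (el x)⁻¹ = el a * el d := by
    rw [mul_inv_eq_iff_eq_mul, ← el_pcomp ox od, Nat.eq_of_beq_eq_true e4, el_pcomp (ok_pcomp oa od) ox, el_pcomp oa od]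
  have e5' : el b * el a = el a * el b := by
    rw [← el_pcomp ob oa, Nat.eq_of_beq_eq_true e5, el_pcomp oa ob]
  have e6' : el b * el x = el x * el b := by
    rw [← el_pcomp ob ox, Nat.eq_of_beq_eq_true e6, el_pcomp ox ob]
  have e7' : el c * el a = el a * el c := by
    rw [← el_pcomp oc oa, Nat.eq_of_beq_eq_true e7, el_pcomp oa oc]
  have e8' : el c * el x = el x * el c := by
    rw [← el_pcomp oc ox, Nat.eq_of_beq_eq_true e8, el_pcomp ox oc]
  have nbc' : el b ≠ el c := by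
    intro h0
    refine el_ne (ok_pcomp ob oc) nbc ?_
    rw [el_pcomp ob oc, h0, c2']
  rw [← e2'] at e3' e4'
  have key : KA M24 := by
    have := Fact.mk Nat.prime_two
    have := Fact.mk Nat.prime_three
    refine ⟨el b, el c, el a, el x, orderOf_eq_prime (by rw [pow_two, b2']) (el_ne ob nb),
      orderOf_eq_prime (by rw [pow_two, c2']) (el_ne oc nc), nbc', e1',
      orderOf_eq_prime (by rw [pow_two, a2']) (el_ne oa na), orderOf_eq_prime x3' (el_ne ox nx), e3', e4',
      e5', e6', e7', e8'⟩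
  have h2 := Fact.mk Nat.prime_two
  have h3 := Fact.mk Nat.prime_three
  refine ⟨⟨_, hb⟩, ⟨_, hc⟩, ⟨_, ha⟩, ⟨_, hx⟩, ?_, ?_, ?_, ?_, ?_, ?_, ?_, ?_, ?_, ?_, ?_, ?_⟩
  · rw [Subgroup.orderOf_mk, Subgroup.orderOf_coe]
    exact orderOf_eq_prime (by rw [pow_two, b2']) (el_ne ob nb)
  · rw [Subgroup.orderOf_mk, Subgroup.orderOf_coe]
    exact orderOf_eq_prime (by rw [pow_two, c2']) (el_ne oc nc)
  · intro h0
    exact nbc' (Subtype.ext (congrArg (fun z : K => (z : Equiv.Perm GolayPt)) h0))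
  · apply Subtype.ext
    simpa using lift e1'
  · rw [Subgroup.orderOf_mk, Subgroup.orderOf_coe]
    exact orderOf_eq_prime (by rw [pow_two, a2']) (el_ne oa na)
  · rw [Subgroup.orderOf_mk, Subgroup.orderOf_coe]
    exact orderOf_eq_prime x3' (el_ne ox nx)
  · apply Subtype.ext
    simpa using lift e3'
  · apply Subtype.ext
    simpa using lift e4'
  · apply Subtype.ext
    simpa using lift e5'
  · apply Subtype.ext
    simpa using lift e6'
  · apply Subtype.ext
    simpa using lift e7'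
  · apply Subtype.ext
    simpa using lift e8'

theorem ka_M22 : KA Cfsg.Spor.M22 :=
  ka_of_chk (b := 967655404336561563530357383050140992) (c := 973945644914022110970435173357822304)
    (a := 974897174784788785969838101811548832) (d := 978232879086441799526177284869434624)
    (x := 984794972102085993844806468867632736) (by decide +kernel) (mem_M22 (by decide +kernel))
    (mem_M22 (by decide +kernel)) (mem_M22 (by decide +kernel)) (mem_M22 (by decide +kernel))

theorem ka_HS : KA Cfsg.Spor.HS := by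
  obtain ⟨f, hf⟩ := Cfsg.Agent.H921.Spor.Co.exists_HS
  exact ka_M22.map f hf

end Mathieu

end Cfsg.Agent.H61.SpAlt
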