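import Cfsg.Agent.H380.AltSpecTen

/-!
# Element orders of the alternating groups of degree at most 21: tools (helper61)
-/

set_option autoImplicit false

namespace Cfsg.Agent.H61.SpAlt

open Cfsg.Agent.H380.AltSpec

/-- `m` is not the order of an element of `Aₙ` -/
def nordB (n m : ℕ) : Bool := (T n n).all fun x => !(x.2 && Nat.beq x.1 m)

theorem not_ord {n m : ℕ} (h : nordB n m = true) : ¬ ∃ a : alternatingGroup (Fin n), orderOf a = m := by
  rintro ⟨a, ha⟩
  have h1 := List.all_eq_true.1 h _ (orderOf_mem_T a)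
  rw [ha] at h1
  simp at h1

/-- none of the numbers of the list `l` is the order of an element of `Aₙ` -/
def nordL (n : ℕ) (l : List ℕ) : Bool := (T n n).all fun x => !(x.2 && l.any fun m => Nat.beq x.1 m)

theorem not_ord_of_mem {n : ℕ} {l : List ℕ} (h : nordL n l = true) {m : ℕ} (hm : m ∈ l) :
    ¬ ∃ a : alternatingGroup (Fin n), orderOf a = m := by
  rintro ⟨a, ha⟩
  have h1 := List.all_eq_true.1 h _ (orderOf_mem_T a)
  rw [ha] at h1
  simp only [Bool.true_and, Bool.not_eq_true', List.any_eq_false] at h1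
  exact h1 m hm (Nat.beq_refl m)

/-- a cycle type gives an order -/
theorem ord {n : ℕ} (s : Multiset ℕ) (m : ℕ) (hs : s.sum ≤ n) (h2 : ∀ a ∈ s, 2 ≤ a)
    (he : Even (s.sum + Multiset.card s)) (hm : s.lcm = m) : ∃ a : alternatingGroup (Fin n), orderOf a = m :=
  mem_range_of s m hs h2 he hm

theorem ord_prime {n p : ℕ} (hp : p.Prime) (hp2 : p ≠ 2) (hpn : p ≤ n) :
    ∃ a : alternatingGroup (Fin n), orderOf a = p := by
  refine ord {p} p (by simpa using hpn) ?_ ?_ (by simp)
  · intro a ha
    rw [Multiset.mem_singleton.1 ha]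
    exact hp.two_le
  · have := hp.odd_of_ne_two hp2
    simp only [Multiset.sum_singleton, Multiset.card_singleton]
    exact this.add_odd odd_one

/-- a prime dividing an order in `Aₙ` is at most `n` -/
theorem le_of_prime {n p : ℕ} (hp : p.Prime) (h : ∃ a : alternatingGroup (Fin n), orderOf a = p) : p ≤ n := by
  obtain ⟨a, ha⟩ := h
  have h1 : orderOf (a : Equiv.Perm (Fin n)) ∣ Nat.card (Equiv.Perm (Fin n)) := orderOf_dvd_natCard _
  rw [Subgroup.orderOf_coe, ha, Nat.card_eq_fintype_card, Fintype.card_perm, Fintype.card_fin] at h1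
  exact hp.dvd_factorial.1 h1

/-- an odd prime `p ≤ n < p + 4` is not joined to `2` in `Aₙ` -/
theorem not_two {n p : ℕ} (hp : p.Prime) (hp2 : p ≠ 2) (h : n < p + 4) :
    ¬ ∃ a : alternatingGroup (Fin n), orderOf a = 2 * p := by
  rintro ⟨a, ha⟩
  set σ : Equiv.Perm (Fin n) := (a : Equiv.Perm (Fin n)) with hσ
  have h0 : orderOf σ = 2 * p := by rw [hσ, Subgroup.orderOf_coe, ha]
  have hsign : Equiv.Perm.sign σ = 1 := Equiv.Perm.mem_alternatingGroup.1 a.2
  have hlcm : σ.cycleType.lcm = 2 * p := by rw [Equiv.Perm.lcm_cycleType, h0]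
  have hsum : σ.cycleType.sum ≤ n := by
    rw [Equiv.Perm.sum_cycleType]
    calc _ ≤ Fintype.card (Fin n) := Finset.card_le_univ _
      _ = n := Fintype.card_fin n
  have hp3 : 3 ≤ p := by
    rcases hp.eq_two_or_odd' with h1 | h1
    · exact absurd h1 hp2
    · obtain ⟨k, hk⟩ := h1
      have := hp.two_le
      omega
  -- a cycle of length divisible by `p`
  obtain ⟨b, hb, hpb⟩ : ∃ b ∈ σ.cycleType, p ∣ b := by
    by_contra hcon
    push Not at hcon
    have h1 : σ.cycleType.lcm ∣ 2 := by
      rw [Multiset.lcm_dvd]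
      intro b hb
      have h2 : b ∣ 2 * p := by rw [← hlcm]; exact Multiset.dvd_lcm hb
      exact (Nat.Coprime.symm ((Nat.Prime.coprime_iff_not_dvd hp).2 (hcon b hb))).dvd_of_dvd_mul_right h2
    rw [hlcm] at h1
    have h3 := Nat.le_of_dvd (by norm_num) h1
    omega
  obtain ⟨s, hs⟩ := Multiset.exists_cons_of_mem hb
  rw [hs, Multiset.sum_cons] at hsum
  have hbd : b ∣ 2 * p := by rw [← hlcm]; exact Multiset.dvd_lcm hb
  have hb2 : 2 ≤ b := Equiv.Perm.two_le_of_mem_cycleType hb
  obtain ⟨c, hc⟩ := hpb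
  have hc2 : c ∣ 2 := by
    rw [hc, mul_comm 2 p] at hbd
    exact (Nat.mul_dvd_mul_iff_left hp.pos).1 hbd
  have hc1 : c = 1 ∨ c = 2 := (Nat.dvd_prime Nat.prime_two).1 hc2
  have hs2 : ∀ x ∈ s, 2 ≤ x := fun x hx => Equiv.Perm.two_le_of_mem_cycleType (hs ▸ Multiset.mem_cons_of_mem hx)
  have hcard : ∀ t : Multiset ℕ, (∀ x ∈ t, 2 ≤ x) → 2 * Multiset.card t ≤ t.sum := by
    intro t
    induction t using Multiset.induction_on with
    | empty => simp
    | cons x t ih =>
      intro ht
      have h1 := ih fun y hy => ht y (Multiset.mem_cons_of_mem hy)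
      have h2 := ht x (Multiset.mem_cons_self x t)
      rw [Multiset.sum_cons, Multiset.card_cons]
      omega
  have hpar : Even (σ.cycleType.sum + Multiset.card σ.cycleType) := by
    rw [Equiv.Perm.sign_of_cycleType] at hsign
    by_contra hne
    rw [Nat.not_even_iff_odd] at hne
    rw [hne.neg_one_pow] at hsign
    exact absurd hsign (by decide)
  rw [hs, Multiset.sum_cons, Multiset.card_cons] at hpar
  have hodd := hp.odd_of_ne_two hp2
  rcases hc1 with rfl | rfl
  · -- a `p`-cycle, the others have sum at most 3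
    rw [mul_one] at hc
    subst hc
    have h4 := hcard s hs2
    have h5 : Multiset.card s ≤ 1 := by omega
    have h6 : s.lcm ∣ 2 * b := by
      rw [← hlcm, hs, Multiset.lcm_cons]
      exact dvd_lcm_right _ _
    have h7 : ¬ 2 ∣ s.lcm → False := by
      intro h8
      have h9 : (2 : ℕ) ∣ σ.cycleType.lcm := by rw [hlcm]; exact Dvd.intro _ rfl
      rw [hs, Multiset.lcm_cons] at h9
      rcases (Nat.Prime.dvd_lcm Nat.prime_two).1 h9 with h10 | h10
      · obtain ⟨k, hk⟩ := hodd
        omega
      · exact h8 h10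
    rcases Nat.le_one_iff_eq_zero_or_eq_one.1 h5 with h8 | h8
    · rw [Multiset.card_eq_zero] at h8
      apply h7
      rw [h8]
      decide
    · obtain ⟨y, hy⟩ := Multiset.card_eq_one.1 h8
      rw [hy] at hsum hpar h7
      rw [Multiset.sum_singleton] at hsum hpar
      rw [Multiset.card_singleton] at hpar
      apply h7
      rw [Multiset.lcm_singleton]
      intro h9
      have h9' : 2 ∣ y := by simpa using h9
      obtain ⟨z, hz⟩ := h9'
      obtain ⟨k, hk⟩ := hodd
      rw [Nat.even_iff] at hpar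
      omega
  · -- a `2p`-cycle
    have h4 := hcard s hs2
    have h5 : p = 3 := by omega
    subst h5
    have h6 : Multiset.card s = 0 := by omega
    rw [Multiset.card_eq_zero] at h6
    rw [h6] at hpar
    simp only [Multiset.sum_zero, Multiset.card_zero] at hpar
    rw [hc, Nat.even_iff] at hpar
    omega

end Cfsg.Agent.H61.SpAlt
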