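import Cfsg.Agent.H403.SporOrd
import Cfsg.Agent.H998.SpAlt.Pull
import Cfsg.Agent.H61.SpAltSpec

/-!
# Numerical reduction: sporadic factors of groups isospectral to `Aₙ`, `n ≤ 21` (helper61)
-/

set_option autoImplicit false
set_option maxRecDepth 100000

namespace Cfsg.Agent.H61.SpAlt

open Cfsg Cfsg.Agent.OrdDiv Cfsg.Agent.H403 Cfsg.Agent.H998.SpAlt

universe u v

/-- the primes dividing the order are at most `n`, and the odd primes `p` with `n - 4 < p ≤ n` divide the order -/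
def okN (n : ℕ) (x : Grp × ℕ × List (ℕ × ℕ)) : Bool :=
  (x.2.2.all fun y => Nat.ble y.1 n) &&
    ([3, 5, 7, 11, 13, 17, 19].all fun p => !(Nat.ble p n && Nat.blt n (p + 4)) || Nat.beq (x.2.1 % p) 0)

/-- the groups left for the degree `n` -/
def grps : ℕ → List Grp
  | 7 => [.j2]
  | 8 => [.j2]
  | 9 => [.j2]
  | 10 => [.j2]
  | 11 => [.m11, .m12, .m22, .hs, .mcl]
  | 12 => [.m11, .m12, .m22, .hs, .mcl]
  | 13 => [.suz, .fi22]
  | 14 => [.suz, .fi22]
  | 15 => [.suz, .fi22]
  | 16 => [.suz, .fi22]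
  | 17 => [.he]
  | 18 => [.he]
  | 19 => [.j3]
  | 20 => [.j3]
  | 21 => [.j1, .j3, .hn]
  | _ => []

theorem num_check : ((List.range 17).all fun i => sporFac.all fun x =>
    !(okN (i + 5) x) || (grps (i + 5)).contains x.1 || x.1 == .tits) = true := by decide +kernel

theorem fac_check : (sporFac.all fun x => Nat.beq x.2.1 (ordN x.1) &&
    x.2.2.all fun y => Nat.beq (x.2.1 % y.1) 0 && Nat.blt 1 y.1 &&
      ((List.range y.1).all fun d => Nat.ble d 1 || !Nat.beq (y.1 % d) 0)) = true := by decide +kernel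

theorem prime_of_check {p : ℕ} (h1 : 1 < p)
    (h : ((List.range p).all fun d => Nat.ble d 1 || !Nat.beq (p % d) 0) = true) : p.Prime := by
  rw [Nat.prime_def]
  refine ⟨h1, fun m hm => ?_⟩
  by_contra hcon
  push Not at hcon
  have hm0 : m ≠ 0 := by
    rintro rfl
    rw [zero_dvd_iff] at hm
    omega
  have hlt : m < p := lt_of_le_of_ne (Nat.le_of_dvd (by omega) hm) hcon.2
  have h2 := List.all_eq_true.1 h m (List.mem_range.2 hlt)
  rw [Bool.or_eq_true, Bool.not_eq_true', ← Bool.not_eq_true, Nat.beq_eq] at h2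
  rcases h2 with h2 | h2
  · have := Nat.le_of_ble_eq_true h2
    omega
  · exact h2 (Nat.mod_eq_zero_of_dvd hm)

theorem find_fac' {N : ℕ} (h : (sporFac.any fun x => Nat.beq x.2.1 N && !(x.1 == .tits)) = true) {M : ℕ} (hM : M = N) :
    ∃ x ∈ sporFac, M = x.2.1 ∧ (x.1 == .tits) = false := by
  obtain ⟨x, hx, hb⟩ := List.any_eq_true.1 h
  rw [Bool.and_eq_true, Bool.not_eq_true'] at hb
  exact ⟨x, hx, by rw [hM]; exact (Nat.beq_eq ▸ hb.1 : x.2.1 = N).symm, hb.2⟩

theorem card_mem_sp {S : Type u} [Group S] (h : Cfsg.IsSporadic S) :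
    ∃ x ∈ sporFac, Nat.card S = x.2.1 ∧ (x.1 == .tits) = false := by
  unfold Cfsg.IsSporadic at h
  rcases h with h | h | h | h | h | h | h | h | h | h | h | h | h | h | h | h | h | h | h | h | h | h | h | h | h | h <;>
    exact find_fac' (by decide +kernel) h.2

section

variable {n : ℕ} {G : Type v} [Group G] [Finite G] {X : Type u} [Group X]

theorem finite_of_st (hst : St G X) : Finite X := by
  obtain ⟨K, hK, S, hS, -, -, ⟨e⟩, -⟩ := hst
  exact Finite.of_equiv _ e.toEquiv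

theorem isSimple_of_sp (hsp : Cfsg.IsSporadic X) : IsSimpleGroup X := by
  unfold Cfsg.IsSporadic at hsp
  rcases hsp with h | h | h | h | h | h | h | h | h | h | h | h | h | h | h | h | h | h | h | h | h | h | h | h | h | h <;>
    exact h.1

theorem has_of_X (hst : St G X) {m : ℕ} (h : Has X m) : Has G m := by
  obtain ⟨K, hK, S, hS, hKs, hC, ⟨e⟩, -⟩ := hst
  obtain ⟨G0, f, hf, -, -⟩ := exists_surj K S e hKs
  obtain ⟨g, hg⟩ := Has.of_surj f hf h
  exact ⟨g, by rw [Subgroup.orderOf_coe, hg]⟩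

/-- the primes dividing `|X|` are at most `n` -/
theorem le_of_dvd_X (h : ∀ m, Has G m ↔ Has (alternatingGroup (Fin n)) m)
    (hst : St G X) {p : ℕ} (hp : p.Prime) (hd : p ∣ Nat.card X) : p ≤ n := by
  have := Fact.mk hp
  have := finite_of_st hst
  obtain ⟨x, hx⟩ := exists_prime_orderOf_dvd_card' p hd
  exact le_of_prime hp ((h p).1 (has_of_X hst ⟨x, hx⟩))

omit [Finite G] in
theorem dvd_card_G (h : ∀ m, Has G m ↔ Has (alternatingGroup (Fin n)) m) {p : ℕ}
    (hp : p.Prime) (hp2 : p ≠ 2) (hpn : p ≤ n) : p ∣ Nat.card G := by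
  obtain ⟨g, hg⟩ := (h p).2 (ord_prime hp hp2 hpn)
  rw [← hg]
  exact orderOf_dvd_natCard g

omit [Finite G] in
/-- the odd primes `p` with `n - 4 < p ≤ n` divide `|X|` -/
theorem dvd_X (h : ∀ m, Has G m ↔ Has (alternatingGroup (Fin n)) m)
    (hst : St G X) {p : ℕ} (hp : p.Prime) (hp2 : p ≠ 2) (hpn : p ≤ n) (hn : n < p + 4) : p ∣ Nat.card X := by
  obtain ⟨K, hK, S, hS, -, -, -, hd⟩ := hst
  have h1 := dvd_card_G h hp hp2 hpn
  have h2 := hd p hp hp2 h1 (fun hh => not_two hp hp2 hn ((h _).1 hh)) 1 (by rwa [pow_one])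
  rwa [pow_one] at h2

theorem reduce (h5 : 5 ≤ n) (h21 : n < 22) (h : ∀ m, Has G m ↔ Has (alternatingGroup (Fin n)) m)
    (hsp : Cfsg.IsSporadic X) (hst : St G X) : ∃ x ∈ sporFac, x.1 ∈ grps n ∧ Nat.card X = x.2.1 ∧
      Nat.card X = ordN x.1 ∧ ¬ ∀ a b : X, a * b = b * a := by
  have hf := finite_of_st hst
  have hs := isSimple_of_sp hsp
  obtain ⟨x, hx, hc, htits⟩ := card_mem_sp hsp
  have hfac := List.all_eq_true.1 fac_check x hx
  rw [Bool.and_eq_true, Nat.beq_eq] at hfac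
  have hprimes : ∀ y ∈ x.2.2, y.1.Prime ∧ y.1 ∣ Nat.card X := by
    intro y hy
    have h1 := List.all_eq_true.1 hfac.2 y hy
    rw [Bool.and_eq_true, Bool.and_eq_true, Nat.beq_eq, Nat.blt_eq] at h1
    exact ⟨prime_of_check h1.1.2 h1.2, by rw [hc]; exact Nat.dvd_of_mod_eq_zero h1.1.1⟩
  have hok : okN n x = true := by
    unfold okN
    rw [Bool.and_eq_true, List.all_eq_true, List.all_eq_true]
    refine ⟨fun y hy => ?_, fun p hp => ?_⟩
    · exact Nat.ble_eq_true_of_le (le_of_dvd_X h hst (hprimes y hy).1 (hprimes y hy).2)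
    · rw [Bool.or_eq_true, Bool.not_eq_true', Nat.beq_eq]
      by_cases hpn : p ≤ n ∧ n < p + 4
      · right
        have hpp : p.Prime ∧ p ≠ 2 := by
          simp only [List.mem_cons, List.not_mem_nil, or_false] at hp
          rcases hp with rfl | rfl | rfl | rfl | rfl | rfl | rfl <;> norm_num
        rw [← hc]
        exact Nat.mod_eq_zero_of_dvd (dvd_X h hst hpp.1 hpp.2 hpn.1 hpn.2)
      · left
        rw [← Bool.not_eq_true, Bool.and_eq_true, Nat.blt_eq]
        rintro ⟨h1, h2⟩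
        exact hpn ⟨Nat.le_of_ble_eq_true h1, h2⟩
  have h1 := List.all_eq_true.1 num_check (n - 5) (List.mem_range.2 (by omega))
  have h2 := List.all_eq_true.1 h1 x hx
  rw [Nat.sub_add_cancel h5, Bool.or_eq_true, Bool.or_eq_true, Bool.not_eq_true', hok, htits] at h2
  have h3 : (grps n).contains x.1 = true := by
    rcases h2 with (h2 | h2) | h2
    · exact absurd h2 (by decide)
    · exact h2
    · exact absurd h2 (by decide)
  refine ⟨x, hx, List.contains_iff_mem.1 h3, hc, hc.trans hfac.1, ?_⟩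
  intro hcomm
  -- a commutative simple group has prime order
  have hpr : (Nat.card X).Prime := by
    let _i : CommGroup X := { (inferInstance : Group X) with mul_comm := hcomm }
    exact IsSimpleGroup.prime_card
  have h4 : ∀ y ∈ x.2.2, y.1 = Nat.card X := fun y hy =>
    (Nat.prime_dvd_prime_iff_eq (hprimes y hy).1 hpr).1 (hprimes y hy).2
  have h5 : (sporFac.all fun x => x.2.2.any fun y => !(Nat.beq y.1 x.2.1)) = true := by decide +kernel
  have h6 := List.all_eq_true.1 h5 x hx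
  rw [List.any_eq_true] at h6
  obtain ⟨y, hy, h7⟩ := h6
  rw [h4 y hy, hc] at h7
  simp at h7

end

end Cfsg.Agent.H61.SpAlt
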