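import Cfsg.Agent.H946.Rad
import Cfsg.Agent.H998.SpAlt.AltSpec
import Cfsg.Agent.H61.SpAltTop
import Cfsg.Agent.H61.SpAltNum
import Cfsg.Agent.H61.SpAltFb
import Cfsg.Agent.H61.SpAltKlein

/-!
# The kernel for groups isospectral to `Aₙ` (helper61)
-/

set_option autoImplicit false

namespace Cfsg.Agent.H61.SpAlt

open Cfsg Subgroup Cfsg.Agent.H998.SpAlt

universe u v

/-- `p` is the only element order divisible by `p` in `Aₙ` -/
def isoB (n p : ℕ) : Bool := (gen (n + n) n n).all fun x => x.2 || !(Nat.beq (x.1 % p) 0) || Nat.beq x.1 p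

theorem iso_spec {n p : ℕ} (h : isoB n p = true) (a : alternatingGroup (Fin n)) (hp : p ∣ orderOf a) :
    orderOf a = p := by
  have h1 := List.all_eq_true.1 h _ (alt_mem a)
  rw [Bool.or_eq_true, Bool.or_eq_true, Bool.not_eq_true', ← Bool.not_eq_true, Nat.beq_eq, Nat.beq_eq] at h1
  rcases h1 with (h1 | h1) | h1
  · exact absurd h1 Bool.false_ne_true
  · exact absurd (Nat.mod_eq_zero_of_dvd hp) h1
  · exact h1

/-- the data of the reduction: a surjection with nilpotent kernel -/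
def Nil (G : Type u) [Group G] (X : Type v) [Group X] : Prop :=
  ∃ (G0 : Subgroup G) (f : ↥G0 →* X), Function.Surjective f ∧ Group.IsNilpotent ↥f.ker ∧
    ∀ m, Odd m → Has G m → ¬ Has X m → ¬ m.Coprime (Nat.card f.ker)

section

variable {n p : ℕ} {G : Type u} [Group G] [Finite G] {X : Type v} [Group X]

theorem exists_nil (hp : p.Prime) (hp2 : p ≠ 2) (hpn : p ≤ n) (hn : n < p + 4) (hiso : isoB n p = true)
    (h : ∀ m, Has G m ↔ Has (alternatingGroup (Fin n)) m) (hO : OI X) (hst : St G X) : Nil G X := by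
  obtain ⟨K, hK, S, hS, hKs, hC, ⟨e⟩, hd⟩ := hst
  have hfp := Fact.mk hp
  have hpG := dvd_card_G h hp hp2 hpn
  have hpK : ¬ p ∣ Nat.card ↥K := by
    refine not_dvd_K K S hp fun k hk => ?_
    rw [Nat.card_congr e.toEquiv]
    exact hd p hp hp2 hpG (fun hh => not_two hp hp2 hn ((h _).1 hh)) k hk
  -- the kernel is nilpotent
  have hnil : Group.IsNilpotent ↥K := by
    obtain ⟨x, hx⟩ := exists_prime_orderOf_dvd_card' p hpG
    refine Cfsg.Agent.H946.Rad.nilpotent_of_free hp hx fun c hc hxc => ?_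
    have hcop : (orderOf x).Coprime (orderOf c) := by
      rw [hx]
      refine (Nat.Prime.coprime_iff_not_dvd hp).2 fun h1 => hpK (h1.trans ?_)
      have := orderOf_dvd_natCard (⟨c, hc⟩ : K)
      rwa [Subgroup.orderOf_mk] at this
    have h2 : orderOf (x * c) = p * orderOf c := by
      rw [(show Commute x c from hxc).orderOf_mul_eq_mul_orderOf_of_coprime hcop, hx]
    obtain ⟨a, ha⟩ := (h _).1 ⟨x * c, h2⟩
    have h3 := iso_spec hiso a (by rw [ha]; exact Dvd.intro _ rfl)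
    rw [ha] at h3
    have h4 : orderOf c = 1 := by
      have := hp.pos
      exact Nat.eq_of_mul_eq_mul_left hp.pos (by rw [h3, mul_one])
    exact orderOf_eq_one_iff.1 h4
  obtain ⟨G0, f, hf, hsol, hker⟩ := exists_surj K S e hKs
  refine ⟨G0, f, hf, ?_, ?_⟩
  · -- the kernel of `f` embeds in `K`: a Sylow-free argument by the same element
    have hx0 : ∃ x : ↥G0, orderOf x = p := by
      have h1 : p ∣ Nat.card ↥S := by
        have h2 := hd p hp hp2 hpG (fun hh => not_two hp hp2 hn ((h _).1 hh)) 1 (by rwa [pow_one])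
        rw [pow_one] at h2
        rwa [Nat.card_congr e.toEquiv]
      obtain ⟨y, hy⟩ := exists_prime_orderOf_dvd_card' p h1
      exact Has.of_surj f hf ⟨e y, by rw [MulEquiv.orderOf_eq, hy]⟩
    obtain ⟨x, hx⟩ := hx0
    refine Cfsg.Agent.H946.Rad.nilpotent_of_free hp hx fun c hc hxc => ?_
    have hcop : (orderOf x).Coprime (orderOf c) := by
      rw [hx]
      refine (Nat.Prime.coprime_iff_not_dvd hp).2 fun h1 => hpK (h1.trans ?_)
      have := orderOf_dvd_natCard (⟨c, hc⟩ : f.ker)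
      rw [Subgroup.orderOf_mk] at this
      rwa [hker] at this
    have h2 : orderOf (x * c) = p * orderOf c := by
      rw [(show Commute x c from hxc).orderOf_mul_eq_mul_orderOf_of_coprime hcop, hx]
    obtain ⟨a, ha⟩ := (h _).1 ⟨((x * c : ↥G0) : G), by rw [Subgroup.orderOf_coe, h2]⟩
    have h3 := iso_spec hiso a (by rw [ha]; exact Dvd.intro _ rfl)
    rw [ha] at h3
    have h4 : orderOf c = 1 := Nat.eq_of_mul_eq_mul_left hp.pos (by rw [h3, mul_one])
    exact orderOf_eq_one_iff.1 h4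
  · intro m hm hG hX hcop
    rw [hker] at hcop
    obtain ⟨s, hs⟩ := has_S K S hC (hO.congr e.symm) hm hcop hG
    exact hX ⟨e s, by rw [MulEquiv.orderOf_eq, hs]⟩

/-- **killing by a Frobenius group** -/
theorem kill_frob [IsSimpleGroup X] {G0 : Subgroup G} (f : ↥G0 →* X) (hf : Function.Surjective f)
    (hn : Group.IsNilpotent ↥f.ker) {s : ℕ} (hs : s.Prime) (hsd : s ∣ Nat.card f.ker) {r e : ℕ} (hr : r.Prime)
    (hrs : r ≠ s) (he : 1 ≤ e) (hF : Fb r e X) {m m' : ℕ} (h1 : ¬ Has G m') (hm' : m' = e * s) (hm : m.Coprime s)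
    (hX : Has X m) {m'' : ℕ} (h2 : ¬ Has G m'') (hm'' : m'' = m * s) : False := by
  obtain ⟨a, x, k, ha, hx, hc, hk⟩ := hF
  have hno : ∀ {m : ℕ}, ¬ Has G m → ¬ Has ↥G0 m := by
    rintro m hm ⟨g, hg⟩
    exact hm ⟨(g : G), by rw [Subgroup.orderOf_coe, hg]⟩
  refine hno (hm'' ▸ h2) (nil_frob f hf hn hs hsd hr hrs ha hx he hc ?_ (hno (hm' ▸ h1)) hm hX)
  intro i hi hie h3
  exact hk i hie hi h3

/-- **killing by `2² × A₄`** -/
theorem kill_klein [IsSimpleGroup X] {G0 : Subgroup G} (f : ↥G0 →* X) (hf : Function.Surjective f)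
    (hn : Group.IsNilpotent ↥f.ker) (hsd : 3 ∣ Nat.card f.ker) (hF : KA X) {m : ℕ} (h1 : ¬ Has G 18)
    (hm : m.Coprime 3) (hX : Has X m) {m'' : ℕ} (h2 : ¬ Has G m'') (hm'' : m'' = m * 3) : False := by
  obtain ⟨b, c, a, x, hb, hc, hbc, e1, ha, hx, e2, e3, -, e5, -, e7⟩ := hF
  have hno : ∀ {m : ℕ}, ¬ Has G m → ¬ Has ↥G0 m := by
    rintro m hm ⟨g, hg⟩
    exact hm ⟨(g : G), by rw [Subgroup.orderOf_coe, hg]⟩
  exact hno (hm'' ▸ h2) (nil_klein f hf hn hsd hb hc hbc e1 ha hx e2 e3 e5 e7 (hno h1) hm hX)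

theorem Fb.has {r e : ℕ} (hF : Fb r e X) : Has X r := by
  obtain ⟨a, x, k, ha, -⟩ := hF
  exact ⟨a, ha⟩

end

end Cfsg.Agent.H61.SpAlt
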