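import Cfsg.Agent.H61.SpAltCases
import Cfsg.Agent.H998.SpAlt.Ten

/-!
# The alternating part of S3666 (helper61, helper998)

Light version: the order table, the classification and the inner automorphisms of odd order are hypotheses.
-/

set_option autoImplicit false

namespace Cfsg.Agent.H61.SpAlt

open Cfsg Subgroup Cfsg.Agent.H998.SpAlt Cfsg.Agent.OrdDiv

universe u v

theorem sporadic_of_real {n : ℕ} {g : Grp} (hg : g ∈ grps n) {X : Type u} [Group X] (hR : Real g X) :
    IsSporadicGroup X := by
  have key : ∀ m < 22, ∀ g ∈ grps m, g ∈ [Grp.j2, .m11, .m12, .m22, .hs, .mcl, .suz, .fi22, .he, .j3, .j1, .hn] := by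
    decide
  have h1 : g ∈ [Grp.j2, .m11, .m12, .m22, .hs, .mcl, .suz, .fi22, .he, .j3, .j1, .hn] := by
    rcases Nat.lt_or_ge n 22 with h | h
    · exact key n h g hg
    · exfalso
      have h2 : grps n = [] := by
        unfold grps
        split <;> first | omega | rfl
      rw [h2] at hg
      exact List.not_mem_nil hg
  simp only [List.mem_cons, List.not_mem_nil, or_false] at h1
  unfold IsSporadicGroup
  rcases h1 with rfl | rfl | rfl | rfl | rfl | rfl | rfl | rfl | rfl | rfl | rfl | rfl <;>
    (simp only [Cfsg.Agent.OrdDiv.Real] at hR; tauto)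

/-- **No sporadic composition factor for the alternating groups of degree at most 21.** -/
theorem alt_false_of {n : ℕ} (h5 : 5 ≤ n) (h21 : n < 22) {G : Type v} [Group G] [Finite G] {X : Type u} [Group X]
    (h : ∀ m, (∃ g : G, orderOf g = m) ↔ ∃ a : alternatingGroup (Fin n), orderOf a = m) (hsp : Cfsg.IsSporadic X)
    (hst : St G X) (T : OrderTable.{u}) (hk : IsKnownSimple' X) (hodd : IsSporadicGroup X → OI X)
    (h16 : n = 16 → Spor.IsoSuz X → OI X → False) : False := by
  have hfin := finite_of_st hst
  have hs := isSimple_of_sp hsp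
  obtain ⟨x, hx, hg, hc, hcN, hna⟩ := reduce h5 h21 h hsp hst
  have hR : Real x.1 X := Cfsg.Agent.H403.real_of_card T hk hna hx hc
  have hO : OI X := hodd (sporadic_of_real hg hR)
  refine cases_main h5 h21 hs h hg hR hcN hO hst ?_ (fun h1 h2 => h16 h1 h2 hO)
  rintro rfl hJ
  exact ten_false h hJ hO hst

end Cfsg.Agent.H61.SpAlt
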